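import Groth.Agent.PerfC.RpushSingle

/-!
# Complexes in one degree and higher direct images

* `exists_iso_shift`: a complex of `O_X`-modules with cohomology only in degree `-d` is `M[d]`.
* `rpush_iso`: if `K = M[d]` then `H^{p-d}(Rπ_* K) = R^p π_* M`.
* `rpush_isZero`, `push_iso`: if `K = M[d]`, `Rπ_* K ≅ L` and `L` has cohomology only in degree `-d` then
  `R^p π_* M = 0` for `p > 0` and `π_* M ≅ H^{-d}(L)`.
-/

set_option autoImplicit false
universe u
open CategoryTheory CategoryTheory.Limits AlgebraicGeometry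
attribute [local instance] HasDerivedCategory.standard

namespace K97.Single

open Groth.Agent

section

variable {X : Scheme.{u}}

/-- A complex concentrated in degree `n` is a module in degree `n`. -/
theorem exists_iso_single (K : DCoh.D X) (n : ℤ) (hK : ∀ i : ℤ, i ≠ n → IsZero (DCoh.HD K i)) :
    ∃ M : X.Modules, Nonempty (K ≅ (DerivedCategory.singleFunctor X.Modules n).obj M) := by
  have h1 : K.IsGE n := (DerivedCategory.isGE_iff K n).2 fun i hi => hK i (by omega)
  have h2 : K.IsLE n := (DerivedCategory.isLE_iff K n).2 fun i hi => hK i (by omega)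
  exact DerivedCategory.exists_iso_singleFunctor_obj_of_isGE_of_isLE K n

/-- `H^n(M[-n]) = M`. -/
noncomputable def homologySingleIso (n : ℤ) (M : X.Modules) :
    DCoh.HD ((DerivedCategory.singleFunctor X.Modules n).obj M) n ≅ M :=
  (DerivedCategory.singleFunctorCompHomologyFunctorIso X.Modules n).app M

/-- `M[d]` as the module `M` in degree `-d`. -/
noncomputable def shiftIso (d : ℕ) (M : X.Modules) :
    (DCoh.inD X M)⟦(d : ℤ)⟧ ≅ (DerivedCategory.singleFunctor X.Modules (-(d : ℤ))).obj M :=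
  ((DerivedCategory.singleFunctors X.Modules).shiftIso (d : ℤ) (-(d : ℤ)) 0 (by omega)).app M

/-- A complex concentrated in degree `n` is its cohomology in degree `n`. -/
theorem nonempty_iso_single (K : DCoh.D X) (n : ℤ) (hK : ∀ i : ℤ, i ≠ n → IsZero (DCoh.HD K i)) :
    Nonempty (K ≅ (DerivedCategory.singleFunctor X.Modules n).obj (DCoh.HD K n)) := by
  obtain ⟨M, ⟨e⟩⟩ := exists_iso_single K n hK
  exact ⟨e ≪≫ (DerivedCategory.singleFunctor X.Modules n).mapIso
    ((homologySingleIso n M).symm ≪≫ ((DerivedCategory.homologyFunctor X.Modules n).mapIso e).symm)⟩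

/-- The cohomology of `M[-n]` outside degree `n` vanishes. -/
theorem isZero_of_single (K : DCoh.D X) (n : ℤ) (M : X.Modules)
    (e : K ≅ (DerivedCategory.singleFunctor X.Modules n).obj M) (i : ℤ) (hi : i ≠ n) : IsZero (DCoh.HD K i) := by
  rcases lt_or_gt_of_ne hi with h | h
  · exact (DerivedCategory.isZero_of_isGE _ n i h).of_iso ((DerivedCategory.homologyFunctor X.Modules i).mapIso e)
  · exact (DerivedCategory.isZero_of_isLE _ n i h).of_iso ((DerivedCategory.homologyFunctor X.Modules i).mapIso e)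

end

section

variable {X Y : Scheme.{u}} (π : X ⟶ Y) [DCoh.HasRpush π] [HasInjectiveResolutions X.Modules]

/-- If `K = M[d]` then `H^{p-d}(Rπ_* K) = R^p π_* M`. -/
theorem rpush_iso (K : DCoh.D X) (M : X.Modules) (d : ℕ)
    (e : K ≅ (DerivedCategory.singleFunctor X.Modules (-(d : ℤ))).obj M) (p : ℕ) :
    Nonempty (DCoh.HD ((DCoh.Rpush π).obj K) ((p : ℤ) - d) ≅ (Coh.Rpush π p).obj M) :=
  ⟨(DerivedCategory.homologyFunctor Y.Modules ((p : ℤ) - d)).mapIso ((DCoh.Rpush π).mapIso e) ≪≫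
    PerfC.RpushSingle.isoSingle π M (-(d : ℤ)) ((p : ℤ) - d) (p : ℤ) (by omega) ≪≫
    PerfC.RpushSingle.iso π p M⟩

/-- If `Rπ_*(M[d])` has cohomology only in degree `-d` then `R^p π_* M = 0` for `p > 0`. -/
theorem rpush_isZero (K : DCoh.D X) (M : X.Modules) (d : ℕ)
    (e : K ≅ (DerivedCategory.singleFunctor X.Modules (-(d : ℤ))).obj M) (L : DCoh.D Y)
    (e' : (DCoh.Rpush π).obj K ≅ L) (hL : ∀ i : ℤ, i ≠ -(d : ℤ) → IsZero (DCoh.HD L i)) (p : ℕ) (hp : 0 < p) :
    IsZero ((Coh.Rpush π p).obj M) := by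
  obtain ⟨e1⟩ := rpush_iso π K M d e p
  exact (hL ((p : ℤ) - d) (by omega)).of_iso (e1.symm ≪≫ (DerivedCategory.homologyFunctor Y.Modules _).mapIso e')

/-- `R^0 π_* = π_*`. -/
noncomputable def rpushZero (M : X.Modules) : (Coh.Rpush π 0).obj M ≅ (Coh.push π).obj M :=
  (Functor.rightDerivedZeroIsoSelf (Coh.push π)).app M

/-- If `Rπ_*(M[d]) ≅ L` then `π_* M ≅ H^{-d}(L)`. -/
theorem push_iso (K : DCoh.D X) (M : X.Modules) (d : ℕ)
    (e : K ≅ (DerivedCategory.singleFunctor X.Modules (-(d : ℤ))).obj M) (L : DCoh.D Y)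
    (e' : (DCoh.Rpush π).obj K ≅ L) :
    Nonempty ((Coh.push π).obj M ≅ DCoh.HD L (-(d : ℤ))) := by
  obtain ⟨e1⟩ := rpush_iso π K M d e 0
  exact ⟨(rpushZero π M).symm ≪≫ e1.symm ≪≫
    (DerivedCategory.homologyFunctor Y.Modules _).mapIso e' ≪≫
    eqToIso (congrArg (DCoh.HD L) (by simp))⟩

end

end K97.Single
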