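import Groth.Agent.Resolve.K376.Dominate
import Groth.Agent.CohqA.LerayBasis
import Groth.Agent.CohqA.AffineVanish
import Groth.Agent.Fga.UnitRestrict
import Groth.Agent.S1365
import Groth.Agent.Ega4dA.SmoothStalk
import Groth.Agent.Flat2G.StructHH
import Groth.Agent.CurvesC.UnitCoh

/-!
# Modifications: cancellation, base change along flat maps, global functions, degenerate Leray

* `isModif_of_comp`: if `f ≫ g` and `g` are modifications, so is `f`.
* `isModif_restrict`: restriction of a modification over a nonempty open of the target.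
* `isIso_app`: `O_Y → q_* O_X` is an isomorphism for a modification `q : X ⟶ Y` of a normal scheme.
* `subsingleton_HH_of_affine`: `H^(n+1)(X, O) = 0` if `H^(n+1)(Y, O) = 0` and `H^i(q⁻¹ V, O) = 0`
  for affine `V` and all `i > 0`.
* `exists_dominating_closed`: two modifications of `Y` are dominated by a closed subscheme of the fibre product.
* `isModif_of_isPullback`: the base change of a modification along a smooth morphism.
-/

set_option autoImplicit false
universe u
open CategoryTheory CategoryTheory.Limits AlgebraicGeometry TopologicalSpace Opposite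

namespace K97.ModTools

open Groth.Agent.CurvesC.ModDim Groth.Agent.CurvesC.Modif K376.Dominate

/-- Cancellation for modifications. -/
theorem isModif_of_comp {X Y Z : Scheme.{u}} {f : X ⟶ Y} {g : Y ⟶ Z} (hfg : IsModif (f ≫ g)) (hg : IsModif g)
    [IsIntegral Z] : IsModif f := by
  have := hfg.proper
  have := hg.proper
  have := hfg.integral
  have := hg.integral
  obtain ⟨V, hV, hfV⟩ := hfg.exists_isIso
  obtain ⟨U, hU, hgU⟩ := hg.exists_isIso
  have hO : ((U ⊓ V : Z.Opens) : Set Z).Nonempty := nonempty_preirreducible_inter U.2 V.2 hU hV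
  have h1 : IsIso (g ∣_ (U ⊓ V)) := isIso_morphismRestrict_of_le g inf_le_left
  have h2 : IsIso ((f ≫ g) ∣_ (U ⊓ V)) := isIso_morphismRestrict_of_le (f ≫ g) inf_le_right
  have h3 : IsProper f := IsProper.of_comp f g
  refine ⟨h3, hfg.integral, g ⁻¹ᵁ (U ⊓ V), nonempty_preimage g _ hO, ?_⟩
  rw [morphismRestrict_comp] at h2
  exact @IsIso.of_isIso_comp_right _ _ _ _ _ (f ∣_ (g ⁻¹ᵁ (U ⊓ V))) (g ∣_ (U ⊓ V)) h1 h2

/-- A modification over an open not meeting the bad locus stays an isomorphism. -/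
theorem isIso_restrict_of_isPullback {X Y P Q : Scheme.{u}} {q : X ⟶ Y} {a : P ⟶ X} {p : P ⟶ Q} {b : Q ⟶ Y}
    (h : IsPullback a p q b) (U : Y.Opens) [IsIso (q ∣_ U)] (W : Q.Opens) (hW : W ≤ b ⁻¹ᵁ U) : IsIso (p ∣_ W) := by
  have h2 := (isPullback_morphismRestrict p W).flip
  refine isIso_of_isPullback (h2.paste_horiz h) U ?_
  rintro _ ⟨x, rfl⟩
  exact hW x.2

/-- Restriction of a modification over a nonempty open of the target. -/
theorem isModif_restrict {X Y : Scheme.{u}} [IsIntegral Y] {q : X ⟶ Y} (hq : IsModif q) (V : Y.Opens)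
    (hV : (V : Set Y).Nonempty) : IsModif (q ∣_ V) := by
  have := hq.proper
  have := hq.integral
  have := hq.surjective
  obtain ⟨U, hU, hqU⟩ := hq.exists_isIso
  have hne : Nonempty (q ⁻¹ᵁ V).toScheme := by
    obtain ⟨v, hv⟩ := hV
    obtain ⟨x, rfl⟩ := q.surjective v
    exact ⟨⟨x, hv⟩⟩
  refine ⟨inferInstance, inferInstance, V.ι ⁻¹ᵁ U, ?_, ?_⟩
  · obtain ⟨y, hyU, hyV⟩ := nonempty_preirreducible_inter U.2 V.2 hU hV
    exact ⟨⟨y, hyV⟩, hyU⟩
  · exact isIso_restrict_of_isPullback (isPullback_morphismRestrict q V).flip U _ le_rfl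

/-- A modification maps the generic point to the generic point. -/
theorem map_genericPoint {X Y : Scheme.{u}} [IsIntegral X] [IsIntegral Y] {q : X ⟶ Y} (hq : IsModif q) :
    q (genericPoint X) = genericPoint Y := by
  have := hq.surjective
  have h := (genericPoint_spec X).image q.continuous
  rw [Set.image_univ, q.surjective.range_eq, closure_univ] at h
  exact h.eq (genericPoint_spec Y)

/-- `O_Y → q_* O_X` is an isomorphism for a modification of a normal scheme. -/
theorem isIso_app {X Y : Scheme.{u}} [IsIntegral Y] (hY : Pi1.IsNormalScheme Y) {q : X ⟶ Y} (hq : IsModif q)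
    (U : Y.Opens) : IsIso (q.app U) := by
  have := hq.proper
  have := hq.integral
  obtain ⟨O, hO, hqO⟩ := hq.exists_isIso
  have hη : genericPoint Y ∈ O := ((genericPoint_spec Y).mem_open_set_iff O.isOpen).mpr (by simpa using hO)
  refine (Groth.Agent.S1365.result q hY ?_ ?_).1 U
  · intro Z hZ x hx
    have h1 : Z = Set.univ := by
      rw [irreducibleComponents_eq_singleton] at hZ
      exact hZ
    have h2 : x = genericPoint X := by
      rw [h1] at hx
      exact hx.eq (genericPoint_spec X)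
    rw [h2]
    exact map_genericPoint hq
  · have h1 : IsPullback (q.fiberι (genericPoint Y)) (q.fiberToSpecResidueField (genericPoint Y)) q
        (Y.fromSpecResidueField (genericPoint Y)) := IsPullback.of_hasPullback _ _
    have h2 : IsIso (q.fiberToSpecResidueField (genericPoint Y)) := by
      refine isIso_of_isPullback h1 O ?_
      rintro _ ⟨x, rfl⟩
      rw [Scheme.fromSpecResidueField_apply]
      exact hη
    have h3 : IsIso (q.fiberToSpecResidueField (genericPoint Y)).appTop :=
      inferInstanceAs (IsIso ((q.fiberToSpecResidueField (genericPoint Y)).app ⊤))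
    exact ConcreteCategory.bijective_of_isIso _

/-- Degenerate Leray for the structure sheaf. -/
theorem subsingleton_HH_of_affine {X Y : Scheme.{u}} (q : X ⟶ Y) (hq : ∀ U : Y.Opens, IsIso (q.app U))
    (hv : ∀ V : Y.Opens, IsAffineOpen V → (V : Set Y).Nonempty → ∀ n : ℕ,
      Subsingleton (Coh.HH (q ⁻¹ᵁ V).toScheme (Coh.structureModule (q ⁻¹ᵁ V).toScheme) (n + 1))) (n : ℕ)
    (h : Subsingleton (Coh.HH Y (Coh.structureModule Y) (n + 1))) :
    Subsingleton (Coh.HH X (Coh.structureModule X) (n + 1)) := by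
  have hF : ∀ V ∈ {V : Y.Opens | IsAffineOpen V}, ∀ m : ℕ, 0 < m →
      Subsingleton (CohTop.HU (Coh.toAb (Coh.structureModule X)) m ((Opens.map q.base).obj V)) := by
    intro V hV m hm
    obtain ⟨m, rfl⟩ : ∃ k, m = k + 1 := ⟨m - 1, by omega⟩
    rcases (V : Set Y).eq_empty_or_nonempty with hem | hne
    · have hem' : q ⁻¹ᵁ V = ⊥ := by
        ext x
        simp only [Opens.coe_bot, Set.mem_empty_iff_false, iff_false]
        intro hx
        have : q x ∈ (V : Set Y) := hx
        rw [hem] at this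
        exact this
      have h4 : Coh.IsQCoh (Coh.structureModule X) := Groth.Agent.CurvesC.UnitCoh.isQCoh_unit X
      have h3 := Groth.Agent.CohqA.AffineVanish.HU_subsingleton (Coh.structureModule X) (m + 1) (by omega)
        (⊥ : X.Opens) (isAffineOpen_bot X)
      rw [← hem'] at h3
      exact h3
    · refine (Groth.Agent.Flat2D.LocalGlobalH.HU_iff_HHon (Coh.structureModule X) (q ⁻¹ᵁ V) (m + 1)).2 ?_
      exact (Groth.Agent.Flat2G.StructHH.HHon_iff (q ⁻¹ᵁ V).ι _ (by simp) (m + 1)).2 (hv V hV hne m)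
  obtain ⟨e⟩ := Groth.Agent.CohqA.LerayBasis.nonempty_equiv q.base {V | IsAffineOpen V}
    Y.isBasis_affineOpens (Coh.toAb (Coh.structureModule X)) hF (n + 1)
  · have h1 : IsIso (Groth.Agent.Fga.UnitRestrict.unitToPush q) := by
      refine Groth.Agent.Fga.UnitRestrict.isIso_unitToPush q fun U => ?_
      have := hq U
      exact ConcreteCategory.bijective_of_isIso (q.app U)
    have h2 := Groth.Agent.Flat2D.LocalGlobalH.subsingleton_HH_of_iso
      (asIso (Groth.Agent.Fga.UnitRestrict.unitToPush q)) (n + 1) h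
    exact e.toEquiv.subsingleton_congr.mpr h2

/-- Two modifications of an integral scheme are dominated by a closed subscheme of their fibre product. -/
theorem exists_dominating_closed {X₁ X₂ Y : Scheme.{u}} [IsIntegral Y] {f₁ : X₁ ⟶ Y} {f₂ : X₂ ⟶ Y}
    (h₁ : IsModif f₁) (h₂ : IsModif f₂) :
    ∃ (X₃ : Scheme.{u}) (i : X₃ ⟶ pullback f₁ f₂), IsClosedImmersion i ∧ IsModif (i ≫ pullback.fst f₁ f₂ ≫ f₁) := by
  obtain ⟨U₁, hU₁, hi₁⟩ := h₁.exists_isIso
  obtain ⟨U₂, hU₂, hi₂⟩ := h₂.exists_isIso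
  have := h₁.proper
  have := h₂.proper
  let U := U₁ ⊓ U₂
  have hU : (U : Set Y).Nonempty := nonempty_preirreducible_inter U₁.2 U₂.2 hU₁ hU₂
  have j₁ : IsIso (f₁ ∣_ U) := isIso_morphismRestrict_of_le f₁ inf_le_left
  have j₂ : IsIso (f₂ ∣_ U) := isIso_morphismRestrict_of_le f₂ inf_le_right
  let P := pullback f₁ f₂
  let p : P ⟶ Y := pullback.fst f₁ f₂ ≫ f₁
  have hfst : IsIso (pullback.fst f₁ f₂ ∣_ (f₁ ⁻¹ᵁ U)) :=
    isIso_restrict_of_isPullback (IsPullback.of_hasPullback f₁ f₂).flip U _ le_rfl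
  have hp : IsIso (p ∣_ U) := by
    rw [morphismRestrict_comp]
    exact IsIso.comp_isIso' hfst j₁
  let V := p ⁻¹ᵁ U
  have hUne : Nonempty U.toScheme := hU.to_subtype
  have hUint : IsIntegral U.toScheme := inferInstance
  have hVne : Nonempty V.toScheme := ⟨inv (p ∣_ U) (Classical.arbitrary _)⟩
  have hV : IsIntegral V.toScheme := isIntegral_of_isOpenImmersion (p ∣_ U)
  obtain ⟨X₃, i, hi, hint, hiso, -⟩ := exists_closure V
  refine ⟨X₃, i, hi, ?_⟩
  refine ⟨inferInstance, hint, U, hU, ?_⟩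
  change IsIso ((i ≫ p) ∣_ U)
  rw [morphismRestrict_comp]
  exact IsIso.comp_isIso' hiso hp

/-- Smooth schemes over normal schemes are normal. -/
theorem isNormalScheme_of_smooth {X S : Scheme.{u}} (hS : Pi1.IsNormalScheme S) (f : X ⟶ S) [Smooth f] :
    Pi1.IsNormalScheme X := fun x => Groth.Agent.Ega4dA.SmoothStalk.stalk_of_smooth hS f x

/-- Open subschemes of normal schemes are normal. -/
theorem isNormalScheme_opens {X : Scheme.{u}} (hX : Pi1.IsNormalScheme X) (U : X.Opens) :
    Pi1.IsNormalScheme U.toScheme := by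
  intro x
  obtain ⟨h1, h2⟩ := hX x.1
  let e := (U.stalkIso x).commRingCatIsoToRingEquiv
  exact ⟨e.toMulEquiv.isDomain _, IsIntegrallyClosed.of_equiv e.symm⟩

/-- The base change of a modification along a smooth morphism. -/
theorem isModif_of_isPullback {V Y T T'' : Scheme.{u}} [IsIntegral T] [IsIntegral Y] {π₁ : V ⟶ Y} {π₂ : V ⟶ T''}
    {g : Y ⟶ T} {c : T'' ⟶ T} (h : IsPullback π₁ π₂ g c) [Smooth g] (hc : IsModif c)
    (hT : Pi1.IsNormalScheme T'') : IsModif π₁ := by
  have := hc.proper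
  have := hc.integral
  have := hc.surjective
  obtain ⟨U, hU, hcU⟩ := hc.exists_isIso
  have hπ₂ : Smooth π₂ := MorphismProperty.of_isPullback (P := @Smooth) h inferInstance
  have hπ₁ : IsProper π₁ := MorphismProperty.of_isPullback (P := @IsProper) h.flip inferInstance
  have hVn := isNormalScheme_of_smooth hT π₂
  have hVr : IsReduced V := by
    have : ∀ x : V, _root_.IsReduced (V.presheaf.stalk x) := fun x => by
      have := (hVn x).1
      infer_instance
    exact isReduced_of_isReduced_stalk V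
  have hg : IsOpenMap g := g.isOpenMap
  have hW : ((g ⁻¹ᵁ U : Y.Opens) : Set Y).Nonempty := by
    have h1 : (Set.range g : Set T).Nonempty := Set.range_nonempty g
    obtain ⟨_, h2, ⟨y, rfl⟩⟩ := nonempty_preirreducible_inter U.2 hg.isOpen_range hU h1
    exact ⟨y, h2⟩
  have hiso : IsIso (π₁ ∣_ (g ⁻¹ᵁ U)) := isIso_restrict_of_isPullback h.flip U _ le_rfl
  have hne : Nonempty (g ⁻¹ᵁ U).toScheme := hW.to_subtype
  have hint : IsIntegral (g ⁻¹ᵁ U).toScheme := inferInstance
  let W : V.Opens := π₁ ⁻¹ᵁ (g ⁻¹ᵁ U)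
  have hWne : Nonempty W.toScheme := ⟨inv (π₁ ∣_ (g ⁻¹ᵁ U)) (Classical.arbitrary _)⟩
  have hWint : IsIntegral W.toScheme := isIntegral_of_isOpenImmersion (π₁ ∣_ (g ⁻¹ᵁ U))
  have hWirr : IsIrreducible (W : Set V) := by
    have h1 : IsIrreducible (Set.range W.ι) := by
      rw [← Set.image_univ]
      exact (IrreducibleSpace.isIrreducible_univ _).image _ W.ι.continuous.continuousOn
    rwa [Scheme.Opens.range_ι] at h1
  have hdense : Dense (W : Set V) := by
    have h1 : (W : Set V) = π₂ ⁻¹' ((c ⁻¹ᵁ U : T''.Opens) : Set T'') := by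
      change ((π₁ ⁻¹ᵁ (g ⁻¹ᵁ U) : V.Opens) : Set V) = ((π₂ ⁻¹ᵁ (c ⁻¹ᵁ U) : V.Opens) : Set V)
      rw [← Scheme.Hom.comp_preimage, ← Scheme.Hom.comp_preimage, h.w]
    rw [h1]
    refine Dense.preimage ((c ⁻¹ᵁ U).2.dense (nonempty_preimage c U hU)) π₂.isOpenMap
  have hVirr : IrreducibleSpace V := by
    have h1 := hWirr.closure
    rw [hdense.closure_eq] at h1
    exact (irreducibleSpace_def _).mpr h1
  exact ⟨hπ₁, isIntegral_of_irreducibleSpace_of_isReduced _, g ⁻¹ᵁ U, hW, hiso⟩

end K97.ModTools
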