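import Groth.Agent.InvTh.K672.SplitDepth
import Groth.Agent.VarietyA.RegSmoothSch
import Groth.Agent.CalgB.CMPoly
import Groth.Agent.Ega4A.RegCM
import Groth.Agent.Ega2.Normal
import Groth.Agent.Sga4B.SmoothNormal
import Groth.Prelude.Def_ResDeg
import Mathlib.RingTheory.IntegralClosure.IntegralRestrict
import Mathlib.RingTheory.IntegralClosure.GoingDown

/-!
# Tame quotients are Cohen–Macaulay

* `exists_retraction`: `A ⊆ B` a finite extension of normal domains whose degree is invertible in `A`: the
  inclusion has an `A`-linear retraction.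
* `isCohenMacaulayRing`: if moreover `B` is Cohen–Macaulay, so is `A`.
* `isCM_stalk_of_tame`: a normal integral scheme over a field dominated by a finite surjective morphism, of
  degree invertible in the field, from a smooth integral scheme has Cohen–Macaulay local rings.
-/

set_option autoImplicit false
universe u
open CategoryTheory CategoryTheory.Limits AlgebraicGeometry TopologicalSpace Opposite

namespace K97.TameCM

open Groth.Agent

section Ring

variable {A B : Type u} (K L : Type u) [CommRing A] [CommRing B] [Field K] [Field L] [IsDomain A] [IsDomain B]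
  [IsIntegrallyClosed A] [IsIntegrallyClosed B] [Algebra A B] [Module.Finite A B] [Module.IsTorsionFree A B]
  [Algebra A K] [IsFractionRing A K] [Algebra B L] [IsFractionRing B L] [Algebra K L] [Algebra A L]
  [IsScalarTower A B L] [IsScalarTower A K L]

/-- The normalised trace. -/
theorem exists_retraction (hn : IsUnit ((Module.finrank K L : ℕ) : A)) :
    ∃ E : B →ₗ[A] A, ∀ a, E (algebraMap A B a) = a := by
  obtain ⟨w, hw⟩ := hn.exists_left_inv
  refine ⟨w • Algebra.intTrace A B, fun a => ?_⟩
  have hcl : IsIntegralClosure B A L := IsIntegralClosure.of_isIntegrallyClosed _ _ _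
  have hfd : FiniteDimensional K L := by
    refine Module.finite_of_finrank_pos (Nat.pos_of_ne_zero fun h0 => ?_)
    rw [h0, Nat.cast_zero] at hn
    exact not_isUnit_zero hn
  apply IsFractionRing.injective A K
  have h1 := Algebra.algebraMap_intTrace (A := A) (K := K) (L := L) (B := B) (algebraMap A B a)
  rw [LinearMap.smul_apply, smul_eq_mul, map_mul, h1, ← IsScalarTower.algebraMap_apply A B L,
    IsScalarTower.algebraMap_apply A K L, Algebra.trace_algebraMap, nsmul_eq_mul, ← mul_assoc, ← map_natCast (algebraMap A K),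
    ← map_mul, hw, map_one, one_mul]

omit [IsIntegrallyClosed B] in
theorem height_le [IsNoetherianRing A] (p : Ideal A) [p.IsPrime] (P : Ideal B) [P.IsPrime]
    (h : P.comap (algebraMap A B) = p) : p.height ≤ P.height := by
  have hN : IsNoetherianRing B := IsNoetherianRing.of_finite A B
  have hl : P.LiesOver p := ⟨h.symm⟩
  rw [Ideal.height_eq_height_add_of_liesOver_of_hasGoingDown p (P := P)]
  exact le_self_add

/-- Finite extensions of normal domains of invertible degree: the Cohen–Macaulay property descends. -/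
theorem isCohenMacaulayRing [IsNoetherianRing A] (hn : IsUnit ((Module.finrank K L : ℕ) : A))
    (hB : LocCoh.IsCohenMacaulayRing B) : LocCoh.IsCohenMacaulayRing A := by
  obtain ⟨E, hE⟩ := exists_retraction (A := A) (B := B) K L hn
  exact (K672.SplitDepth.isCohenMacaulay E hE (fun p _ P _ h => height_le p P h) hB).1

end Ring

section Sch

/-- The function ring of an affine open inside the residue field of the generic point. -/
theorem isFractionRing_evaluation {X : Scheme.{u}} [IsIntegral X] {U : X.Opens} (hU : IsAffineOpen U) (x : X)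
    (hx : x = genericPoint X) (hxU : x ∈ U) :
    @IsFractionRing Γ(X, U) _ (X.residueField x) _ (X.evaluation U x hxU).hom.toAlgebra := by
  subst hx
  have hne : Nonempty U := ⟨⟨_, hxU⟩⟩
  have h1 : IsFractionRing Γ(X, U) X.functionField := functionField_isFractionRing_of_isAffineOpen X U hU
  have hres : Function.Bijective (X.residue (genericPoint X)).hom := by
    refine ⟨?_, X.residue_surjective (genericPoint X)⟩
    exact RingHom.injective (R := X.functionField) (X.residue (genericPoint X)).hom
  let e : X.functionField ≃+* X.residueField (genericPoint X) := RingEquiv.ofBijective _ hres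
  let _ : Algebra Γ(X, U) (X.residueField (genericPoint X)) := (X.evaluation U (genericPoint X) hxU).hom.toAlgebra
  let e' : X.functionField ≃ₐ[Γ(X, U)] X.residueField (genericPoint X) :=
    { e with commutes' := fun a => rfl }
  exact IsLocalization.isLocalization_of_algEquiv _ e'

/-- Every localization at a prime of the coordinate ring of an affine open is a stalk. -/
theorem exists_stalk_of_prime {X : Scheme.{u}} {U : X.Opens} (hU : IsAffineOpen U)
    (q : Ideal Γ(X, U)) [hq : q.IsPrime] :
    ∃ x ∈ U, Nonempty (X.presheaf.stalk x ≃+* Localization.AtPrime q) := by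
  let y : PrimeSpectrum Γ(X, U) := ⟨q, hq⟩
  have hy : hU.fromSpec y ∈ U := by
    rw [← SetLike.mem_coe, ← hU.range_fromSpec]
    exact ⟨y, rfl⟩
  let _ : Algebra Γ(X, U) (X.presheaf.stalk (hU.fromSpec y)) :=
    TopCat.Presheaf.algebra_section_stalk X.presheaf (⟨hU.fromSpec y, hy⟩ : U)
  have : IsLocalization.AtPrime (X.presheaf.stalk (hU.fromSpec y)) q := hU.isLocalization_stalk' y hy
  exact ⟨hU.fromSpec y, hy,
    ⟨(IsLocalization.algEquiv q.primeCompl (X.presheaf.stalk (hU.fromSpec y))
      (Localization.AtPrime q)).toRingEquiv⟩⟩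

/-- Every stalk at a point of an affine open is a localization at a prime. -/
theorem exists_prime_of_stalk {X : Scheme.{u}} {U : X.Opens} (hU : IsAffineOpen U)
    (x : X) (hx : x ∈ U) :
    ∃ (q : Ideal Γ(X, U)) (_ : q.IsPrime), Nonempty (X.presheaf.stalk x ≃+* Localization.AtPrime q) := by
  let _ : Algebra Γ(X, U) (X.presheaf.stalk x) :=
    TopCat.Presheaf.algebra_section_stalk X.presheaf (⟨x, hx⟩ : U)
  have := hU.isLocalization_stalk ⟨x, hx⟩
  exact ⟨(hU.primeIdealOf ⟨x, hx⟩).asIdeal, (hU.primeIdealOf ⟨x, hx⟩).isPrime,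
    ⟨(IsLocalization.algEquiv (hU.primeIdealOf ⟨x, hx⟩).asIdeal.primeCompl (X.presheaf.stalk x)
      (Localization.AtPrime (hU.primeIdealOf ⟨x, hx⟩).asIdeal)).toRingEquiv⟩⟩

/-- The coordinate rings of a scheme smooth over a field are Cohen–Macaulay. -/
theorem isCM_section_of_smooth {k : Type u} [Field k] {X : Scheme.{u}} (g : X ⟶ Spec (CommRingCat.of k)) [Smooth g]
    {U : X.Opens} (hU : IsAffineOpen U) : LocCoh.IsCohenMacaulayRing Γ(X, U) := by
  have hLN : IsLocallyNoetherian X := LocallyOfFiniteType.isLocallyNoetherian g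
  have hN : IsNoetherianRing Γ(X, U) := IsLocallyNoetherian.component_noetherian ⟨U, hU⟩
  refine { isCohenMacaulayLocalRing_localization := fun q hq => ?_ }
  obtain ⟨x, -, ⟨e⟩⟩ := exists_stalk_of_prime hU q
  have hreg : IsRegularLocalRing (X.presheaf.stalk x) :=
    VarietyA.RegSmoothSch.isRegularLocalRing_stalk_of_mem_smoothLocus g x (by rw [g.smoothLocus_eq_top]; trivial)
  have h1 : LocCoh.IsCohenMacaulayLocalRing (X.presheaf.stalk x) :=
    Ega4A.RegCM.isCohenMacaulayLocalRing_of_isRegularLocalRing _
  exact CalgB.CMPoly.isCohenMacaulayLocalRing_of_ringEquiv e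

/-- Tame quotients of smooth schemes are Cohen–Macaulay. -/
theorem isCM_stalk_of_tame {k : Type u} [Field k] {X' X : Scheme.{u}} [IsIntegral X'] [IsIntegral X]
    (a : X ⟶ Spec (CommRingCat.of k)) [LocallyOfFiniteType a] (hX : Pi1.IsNormalScheme X) (f : X' ⟶ X)
    [IsFinite f] [Surjective f] (hs : Smooth (f ≫ a))
    (hdeg : ((f.residueDegree (genericPoint X') : ℕ) : k) ≠ 0) (x : X) :
    LocCoh.IsCohenMacaulayLocalRing (X.presheaf.stalk x) := by
  obtain ⟨_, ⟨U, hU, rfl⟩, hxU, -⟩ :=
    X.isBasis_affineOpens.exists_subset_of_mem_open (Set.mem_univ x) isOpen_univ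
  have hLN : IsLocallyNoetherian X := LocallyOfFiniteType.isLocallyNoetherian a
  have hN : IsNoetherianRing Γ(X, U) := IsLocallyNoetherian.component_noetherian ⟨U, hU⟩
  have hneU : Nonempty U := ⟨⟨x, hxU⟩⟩
  have hU' : IsAffineOpen (f ⁻¹ᵁ U) := hU.preimage f
  have hneU' : Nonempty (f ⁻¹ᵁ U) := by
    obtain ⟨x', rfl⟩ := f.surjective x
    exact ⟨⟨x', hxU⟩⟩
  have hX' : Pi1.IsNormalScheme X' := Sga4B.SmoothNormal.isNormalScheme_of_smooth (f ≫ a)
  have hη' : genericPoint X' ∈ f ⁻¹ᵁ U :=
    ((genericPoint_spec X').mem_open_set_iff (f ⁻¹ᵁ U).isOpen).mpr (by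
      obtain ⟨y⟩ := hneU'
      exact ⟨y.1, trivial, y.2⟩)
  have hη : f (genericPoint X') = genericPoint X := by
    have h := (genericPoint_spec X').image f.continuous
    rw [Set.image_univ, f.surjective.range_eq, closure_univ] at h
    exact h.eq (genericPoint_spec X)
  have hηU : f (genericPoint X') ∈ U := hη'
  have i1 : IsIntegrallyClosed Γ(X, U) := Ega2.Normal.isIntegrallyClosed_of_isAffineOpen hX hU hneU
  have i2 : IsIntegrallyClosed Γ(X', f ⁻¹ᵁ U) := Ega2.Normal.isIntegrallyClosed_of_isAffineOpen hX' hU' hneU'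
  let _ : Algebra Γ(X, U) Γ(X', f ⁻¹ᵁ U) := (f.app U).hom.toAlgebra
  have hfin : Module.Finite Γ(X, U) Γ(X', f ⁻¹ᵁ U) := ((isFinite_iff f).1 ‹_›).2 U hU
  let _ : Algebra Γ(X, U) (X.residueField (f (genericPoint X'))) := (X.evaluation U _ hηU).hom.toAlgebra
  have i3 : IsFractionRing Γ(X, U) (X.residueField (f (genericPoint X'))) :=
    isFractionRing_evaluation hU _ hη hηU
  let _ : Algebra Γ(X', f ⁻¹ᵁ U) (X'.residueField (genericPoint X')) := (X'.evaluation (f ⁻¹ᵁ U) _ hη').hom.toAlgebra
  have i4 : IsFractionRing Γ(X', f ⁻¹ᵁ U) (X'.residueField (genericPoint X')) :=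
    isFractionRing_evaluation hU' _ rfl hη'
  let _ : Algebra (X.residueField (f (genericPoint X'))) (X'.residueField (genericPoint X')) :=
    (f.residueFieldMap (genericPoint X')).hom.toAlgebra
  let _ : Algebra Γ(X, U) (X'.residueField (genericPoint X')) :=
    ((algebraMap Γ(X', f ⁻¹ᵁ U) (X'.residueField (genericPoint X'))).comp
      (algebraMap Γ(X, U) Γ(X', f ⁻¹ᵁ U))).toAlgebra
  have t1 : IsScalarTower Γ(X, U) Γ(X', f ⁻¹ᵁ U) (X'.residueField (genericPoint X')) :=
    IsScalarTower.of_algebraMap_eq fun _ => rfl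
  have t2 : IsScalarTower Γ(X, U) (X.residueField (f (genericPoint X'))) (X'.residueField (genericPoint X')) := by
    refine IsScalarTower.of_algebraMap_eq fun s => ?_
    have h := Scheme.evaluation_naturality f (genericPoint X') (V := U) hηU
    exact (congr($h s)).symm
  have hinj : Function.Injective (algebraMap Γ(X, U) Γ(X', f ⁻¹ᵁ U)) := by
    have h1 : Function.Injective (algebraMap Γ(X, U) (X'.residueField (genericPoint X'))) := by
      rw [IsScalarTower.algebraMap_eq Γ(X, U) (X.residueField (f (genericPoint X'))) (X'.residueField (genericPoint X')),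
        RingHom.coe_comp]
      exact (RingHom.injective _).comp (IsFractionRing.injective Γ(X, U) (X.residueField (f (genericPoint X'))))
    rw [IsScalarTower.algebraMap_eq Γ(X, U) Γ(X', f ⁻¹ᵁ U) (X'.residueField (genericPoint X')), RingHom.coe_comp] at h1
    exact Function.Injective.of_comp h1
  have hfs : FaithfulSMul Γ(X, U) Γ(X', f ⁻¹ᵁ U) := (faithfulSMul_iff_algebraMap_injective _ _).mpr hinj
  have htf : Module.IsTorsionFree Γ(X, U) Γ(X', f ⁻¹ᵁ U) := inferInstance
  let φ : k →+* Γ(X, U) := (X.presheaf.map (homOfLE le_top).op).hom.comp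
    ((a.appTop).hom.comp (Scheme.ΓSpecIso (CommRingCat.of k)).inv.hom)
  have hn : IsUnit ((Module.finrank (X.residueField (f (genericPoint X'))) (X'.residueField (genericPoint X')) : ℕ) :
      Γ(X, U)) := by
    rw [← map_natCast φ]
    exact (IsUnit.mk0 _ hdeg).map φ
  have hCM := isCohenMacaulayRing (X.residueField (f (genericPoint X'))) (X'.residueField (genericPoint X')) hn
    (isCM_section_of_smooth (f ≫ a) hU')
  obtain ⟨q, hq, ⟨e⟩⟩ := exists_prime_of_stalk hU x hxU
  have := hCM.isCohenMacaulayLocalRing_localization q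
  exact CalgB.CMPoly.isCohenMacaulayLocalRing_of_ringEquiv e.symm

end Sch

end K97.TameCM
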