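import Groth.Agent.RatRes.K97.Models
import Groth.Agent.RatRes.K97.TameCM
import Groth.Agent.Flat2D.CMBase

/-!
# Dimensions of integral schemes over a field, birational invariance, Cohen–Macaulay structure morphisms

* `dim_generic_fiber_eq`: the dimension of the generic fibre is the local fibre dimension at the generic point.
* `dim_eq_of_birational`: birational integral schemes over a field have the same dimension.
* `dim_of_smooth`: a scheme smooth of relative dimension `d` over a field has dimension `d`.
* `dim_irreducibleComponents`, `dim_fiber_irreducibleComponents`: pure dimensionality.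
* `isCMAt_of_stalk`: a scheme over a field with Cohen–Macaulay local rings.
-/

set_option autoImplicit false
universe u
open CategoryTheory CategoryTheory.Limits AlgebraicGeometry TopologicalSpace Opposite Topology

namespace K97.DimTools

open K97.Models Groth.Agent

/-- The dimension of the generic fibre. -/
theorem dim_generic_fiber_eq {X T : Scheme.{u}} [IsIntegral X] [IsIntegral T] (F : X ⟶ T)
    [LocallyOfFiniteType F] [IsDominant F] :
    topologicalKrullDim (F.fiber (genericPoint T)) = FlatMor.fibreDimAt F (genericPoint X) :=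
  le_antisymm (dim_generic_fiber_le_fibreDimAt F)
    ((Flat2G.ProperDim.topologicalKrullDim_fiber_le_iff F (genericPoint T) _).1 le_rfl _
      (Ega4fib.H112.FibreFormula.map_genericPoint F))

section Field

variable {k : Type u} [Field k]

instance subsingleton_spec : Subsingleton (Spec (CommRingCat.of k)) :=
  inferInstanceAs (Subsingleton (PrimeSpectrum k))

/-- The fibre of a scheme over a field is the scheme. -/
theorem dim_fiber_field {X : Scheme.{u}} (a : X ⟶ Spec (CommRingCat.of k)) (y : Spec (CommRingCat.of k)) :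
    topologicalKrullDim (a.fiber y) = topologicalKrullDim X := by
  rw [FlatA.FibreDim.topologicalKrullDim_fiber_eq]
  have hx : a ⁻¹' {y} = Set.univ := by
    ext x
    simp only [Set.mem_preimage, Set.mem_singleton_iff, Set.mem_univ, iff_true]
    exact Subsingleton.elim _ _
  rw [hx]
  exact IsHomeomorph.topologicalKrullDim_eq _ (Homeomorph.Set.univ X).isHomeomorph

theorem isDominant_field {X : Scheme.{u}} [Nonempty X] (a : X ⟶ Spec (CommRingCat.of k)) : IsDominant a := by
  refine ⟨fun y => subset_closure ⟨Classical.arbitrary X, Subsingleton.elim _ _⟩⟩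

/-- The dimension is the local fibre dimension at the generic point. -/
theorem dim_eq_fibreDimAt {X : Scheme.{u}} [IsIntegral X] (a : X ⟶ Spec (CommRingCat.of k)) [LocallyOfFiniteType a] :
    topologicalKrullDim X = FlatMor.fibreDimAt a (genericPoint X) := by
  have := isDominant_field a
  rw [← dim_generic_fiber_eq a, dim_fiber_field]

/-- Birational integral schemes over a field have the same dimension. -/
theorem dim_eq_of_birational {X Y : Scheme.{u}} [IsIntegral X] [IsIntegral Y] (a : X ⟶ Spec (CommRingCat.of k))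
    [LocallyOfFiniteType a] (π : Y ⟶ X) [LocallyOfFiniteType π]
    (hbir : ∃ U : X.Opens, (U : Set X).Nonempty ∧ IsIso (π ∣_ U)) :
    topologicalKrullDim Y = topologicalKrullDim X := by
  obtain ⟨U, hU, hπU⟩ := hbir
  rw [dim_eq_fibreDimAt a, dim_eq_fibreDimAt (π ≫ a)]
  have hne := CurvesC.ModDim.nonempty_preimage π U hU
  have hξ : genericPoint Y ∈ π ⁻¹ᵁ U :=
    ((genericPoint_spec Y).mem_open_set_iff (π ⁻¹ᵁ U).isOpen).mpr (by simpa using hne)
  have h1 := Sga7.H752.GenDim.fibreDimAt_comp (π ⁻¹ᵁ U).ι (π ≫ a) ⟨genericPoint Y, hξ⟩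
  have h2 := Sga7.H752.GenDim.fibreDimAt_comp ((π ∣_ U) ≫ U.ι) a ⟨genericPoint Y, hξ⟩
  have h3 : (π ⁻¹ᵁ U).ι ≫ π ≫ a = ((π ∣_ U) ≫ U.ι) ≫ a := by
    rw [← Category.assoc, ← morphismRestrict_ι]
  rw [h3, h2] at h1
  have h4 : ((π ∣_ U) ≫ U.ι) ⟨genericPoint Y, hξ⟩ = genericPoint X := by
    have h5 : Nonempty (π ⁻¹ᵁ U).toScheme := ⟨⟨_, hξ⟩⟩
    have h6 : (⟨genericPoint Y, hξ⟩ : (π ⁻¹ᵁ U).toScheme) = genericPoint (π ⁻¹ᵁ U).toScheme := by
      apply (π ⁻¹ᵁ U).ι.isOpenEmbedding.injective
      rw [genericPoint_eq_of_isOpenImmersion (π ⁻¹ᵁ U).ι]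
      rfl
    rw [h6]
    exact genericPoint_eq_of_isOpenImmersion ((π ∣_ U) ≫ U.ι)
  rw [h4] at h1
  exact h1.symm

/-- The dimension of a smooth scheme over a field. -/
theorem dim_of_smooth {Y : Scheme.{u}} [IsIntegral Y] (b : Y ⟶ Spec (CommRingCat.of k)) (d : ℕ)
    [SmoothOfRelativeDimension d b] : topologicalKrullDim Y = d := by
  have : Smooth b := SmoothOfRelativeDimension.smooth d b
  rw [dim_eq_fibreDimAt b, S2768.result d b]

theorem dim_irreducibleComponents {X : Scheme.{u}} [IrreducibleSpace X] (d : ℕ) (hd : topologicalKrullDim X = d)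
    (Z : Set X) (hZ : Z ∈ irreducibleComponents X) : topologicalKrullDim ↥Z = (d : WithBot ℕ∞) := by
  have h1 : Z = Set.univ := by
    rw [irreducibleComponents_eq_singleton] at hZ
    exact hZ
  rw [h1, ← hd]
  exact IsHomeomorph.topologicalKrullDim_eq _ (Homeomorph.Set.univ X).isHomeomorph

theorem dim_fiber_irreducibleComponents {X : Scheme.{u}} [IrreducibleSpace X] (a : X ⟶ Spec (CommRingCat.of k))
    (d : ℕ) (hd : topologicalKrullDim X = d) (y : Spec (CommRingCat.of k)) (Z : Set ↥(a.fiber y))
    (hZ : Z ∈ irreducibleComponents ↥(a.fiber y)) : topologicalKrullDim ↥Z = (d : WithBot ℕ∞) := by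
  have hsurj : Function.Surjective (a.fiberι y) := by
    intro x
    have h1 : x ∈ Set.range (a.fiberι y) := by
      rw [Scheme.Hom.range_fiberι]
      exact Subsingleton.elim _ _
    exact h1
  have hirr : IrreducibleSpace ↥(a.fiber y) := by
    let e : ↥(a.fiber y) ≃ₜ X := (a.fiberι y).isEmbedding.toHomeomorphOfSurjective hsurj
    have h4 : IsIrreducible (Set.univ : Set ↥(a.fiber y)) := by
      have h5 : IsIrreducible (e.symm '' Set.univ) :=
        (IrreducibleSpace.isIrreducible_univ _).image _ e.symm.continuous.continuousOn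
      rwa [Set.image_univ, e.symm.surjective.range_eq] at h5
    exact (irreducibleSpace_def _).mpr h4
  exact dim_irreducibleComponents d ((dim_fiber_field a y).trans hd) Z hZ

/-- A scheme over a field with Cohen–Macaulay local rings is Cohen–Macaulay over the field. -/
theorem isCMAt_of_stalk {X : Scheme.{u}} (a : X ⟶ Spec (CommRingCat.of k)) [LocallyOfFiniteType a]
    (h : ∀ x : X, LocCoh.IsCohenMacaulayLocalRing (X.presheaf.stalk x)) (x : X) : MoreMor.IsCMAt a x := by
  have hfl : Flat a := inferInstance
  have hLN : IsLocallyNoetherian X := LocallyOfFiniteType.isLocallyNoetherian a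
  have hf : (a.stalkMap x).hom.Flat := Flat.stalkMap a x
  exact (Flat2D.CMBase.isCMAt_iff a x).2 ⟨hf, ((Flat2D.CMBase.cm_iff_of_flat a x hf).1 (h x)).2⟩

end Field

end K97.DimTools
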