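import Groth.Agent.RatRes.K97.Models
import Groth.Agent.Sga4h.AffProj640
import Groth.Agent.AlgSp.K621.SchemeEt
import Groth.Agent.Sga4B.SmoothNormal

/-!
# Acyclic normal models of modifications of smooth affine schemes

`Key k` is the vanishing theorem in relative dimension one. From it:

* `subsingleton_HH_step`: vanishing on a normal modification of `Y ×_T T''` with small fibres.
* `models`: every modification of an affine integral scheme étale over `𝔸^d_k` is dominated by a normal
  modification without higher cohomology of the structure sheaf.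
-/

set_option autoImplicit false
universe u
open CategoryTheory CategoryTheory.Limits AlgebraicGeometry TopologicalSpace Opposite

namespace K97.Acyclic

open Groth.Agent.CurvesC.Modif K97.ModTools K97.Models
open Groth.Agent

/-- The vanishing theorem for normal modifications with one-dimensional fibres over a normal base. -/
def Key (k : Type u) [Field k] : Prop :=
  ∀ {T V X : Scheme.{u}} (a : T ⟶ Spec (CommRingCat.of k)) [LocallyOfFiniteType a] [IsIntegral T]
    (_ : Pi1.IsNormalScheme T) (g : V ⟶ T) [SmoothOfRelativeDimension 1 g] [IsAffine V] [IsIntegral V]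
    (q : X ⟶ V) (_ : IsModif q) (_ : Pi1.IsNormalScheme X)
    (_ : ∀ t : T, topologicalKrullDim ((q ≫ g).fiber t) ≤ 1) (n : ℕ),
    Subsingleton (Coh.HH X (Coh.structureModule X) (n + 1))

variable (k : Type u) [Field k]

/-- Vanishing on a normal modification of `Y ×_T T''` with small fibres over `T''`. -/
theorem subsingleton_HH_step (hK : Key k) {T Y T'' X' : Scheme.{u}} (a : T ⟶ Spec (CommRingCat.of k))
    [LocallyOfFiniteType a] [IsAffine T] [IsAffine Y] [IsIntegral T] (g : Y ⟶ T) [SmoothOfRelativeDimension 1 g]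
    [IsIntegral Y] {c : T'' ⟶ T} (hc : IsModif c) (hn : Pi1.IsNormalScheme T'')
    (hv : ∀ n : ℕ, Subsingleton (Coh.HH T'' (Coh.structureModule T'') (n + 1)))
    {q : X' ⟶ pullback g c} (hq : IsModif q) (hX' : Pi1.IsNormalScheme X')
    (hfib : ∀ t : T'', topologicalKrullDim ((q ≫ pullback.snd g c).fiber t) ≤ 1) (n : ℕ) :
    Subsingleton (Coh.HH X' (Coh.structureModule X') (n + 1)) := by
  have := hc.integral
  have := hc.proper
  have hsm : Smooth g := SmoothOfRelativeDimension.smooth 1 g
  have hpb : IsPullback (pullback.fst g c) (pullback.snd g c) g c := IsPullback.of_hasPullback g c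
  have hπ₁ : IsModif (pullback.fst g c) := isModif_of_isPullback hpb hc hn
  have := hπ₁.integral
  have hVn : Pi1.IsNormalScheme (pullback g c) := isNormalScheme_of_smooth hn (pullback.snd g c)
  refine subsingleton_HH_of_affine q (fun U => isIso_app hVn hq U) (fun V₀ hV₀ hne m => ?_) n ?_
  · have hV₀' : IsAffine V₀.toScheme := hV₀
    have hne' : Nonempty V₀.toScheme := hne.to_subtype
    have hs0 : SmoothOfRelativeDimension 1 (pullback.snd g c) :=
      (smoothOfRelativeDimension_isStableUnderBaseChange 1).of_isPullback hpb inferInstance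
    have hs : SmoothOfRelativeDimension (0 + 1) (V₀.ι ≫ pullback.snd g c) := inferInstance
    have hs' : SmoothOfRelativeDimension 1 (V₀.ι ≫ pullback.snd g c) := hs
    refine hK (c ≫ a) hn (V₀.ι ≫ pullback.snd g c) (q ∣_ V₀) (isModif_restrict hq V₀ hne)
      (isNormalScheme_opens hX' _) (fun t => ?_) m
    have e : (q ∣_ V₀) ≫ V₀.ι ≫ pullback.snd g c = (q ⁻¹ᵁ V₀).ι ≫ q ≫ pullback.snd g c := by
      rw [← Category.assoc, morphismRestrict_ι, Category.assoc]
    rw [e]
    exact (dim_immersion_le (q ≫ pullback.snd g c) (q ⁻¹ᵁ V₀).ι t).trans (hfib t)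
  · have h1 := Flat2D.LocalGlobalH.HH_of_flat hpb.flip (Coh.structureModule T'')
      (CurvesC.UnitCoh.isQCoh_unit T'') n (hv n)
    exact Flat2D.LocalGlobalH.subsingleton_HH_of_iso (Fga.UnitRestrict.pullbackUnitIso (pullback.snd g c)) (n + 1) h1

theorem isModif_of_isIso {X Y : Scheme.{u}} [IsIntegral Y] (f : X ⟶ Y) [IsIso f] : IsModif f :=
  have : Nonempty X := ⟨inv f (Classical.arbitrary Y)⟩
  ⟨inferInstance, isIntegral_of_isOpenImmersion f, ⊤, Set.univ_nonempty, inferInstance⟩

/-- Every modification of an affine integral scheme étale over affine space is dominated by a normal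
modification with `H^i(O) = 0` for `i > 0`. -/
theorem models (hK : Key k) (d : ℕ) : ∀ {X Y : Scheme.{u}} [IsAffine Y] [IsIntegral Y]
    (e : Y ⟶ 𝔸(ULift.{u} (Fin d); Spec (CommRingCat.of k))) [Etale e] (f : X ⟶ Y), IsModif f →
    ∃ (X' : Scheme.{u}) (h : X' ⟶ X), IsModif h ∧ Pi1.IsNormalScheme X' ∧
      ∀ n : ℕ, Subsingleton (Coh.HH X' (Coh.structureModule X') (n + 1)) := by
  induction d with
  | zero =>
    intro X Y _ _ e _ f hf
    have hlqf : LocallyQuasiFinite e := K621.SchemeEt.locallyQuasiFinite_of_etale e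
    let p : 𝔸(ULift.{u} (Fin 0); Spec (CommRingCat.of k)) ≅ Spec (CommRingCat.of k) :=
      asIso (𝔸(ULift.{u} (Fin 0); Spec (CommRingCat.of k)) ↘ Spec (CommRingCat.of k))
    have hs : Subsingleton (Spec (CommRingCat.of k)) := inferInstanceAs (Subsingleton (PrimeSpectrum k))
    have hpt : Subsingleton 𝔸(ULift.{u} (Fin 0); Spec (CommRingCat.of k)) :=
      p.hom.homeomorph.injective.subsingleton
    obtain ⟨U, ⟨y, hy⟩, hfU⟩ := hf.exists_isIso
    have hall : ∀ z : Y, z = genericPoint Y := fun z =>
      (K621.SchemeEt.eq_of_specializes_of_eq e (genericPoint_specializes z) (Subsingleton.elim _ _)).symm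
    have hU : U = ⊤ := by
      rw [eq_top_iff]
      intro z _
      rwa [hall z, ← hall y]
    subst hU
    have hfi : IsIso f := (MorphismProperty.isomorphisms.iff (f := f)).1
      ((IsZariskiLocalAtTarget.iff_of_iSup_eq_top (P := MorphismProperty.isomorphisms Scheme.{u})
        (fun _ : Unit => (⊤ : Y.Opens)) (by simp)).2 fun _ => hfU)
    have hX : IsIntegral X := hf.integral
    have hXa : IsAffine X := IsAffine.of_isIso f
    have hsm : Smooth (f ≫ e ≫ p.hom) := inferInstance
    refine ⟨X, 𝟙 X, isModif_of_isIso _, Sga4B.SmoothNormal.isNormalScheme_of_smooth (f ≫ e ≫ p.hom), fun n => ?_⟩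
    have h4 : Coh.IsQCoh (Coh.structureModule X) := CurvesC.UnitCoh.isQCoh_unit X
    have := CohqA.AffineVanish.HH_subsingleton X (Coh.structureModule X) (n + 1) (Nat.succ_pos n)
    exact this
  | succ d ih =>
    intro X Y _ _ e _ f hf
    let S := Spec (CommRingCat.of k)
    have hTi : IsIntegral 𝔸(ULift.{u} (Fin d); S) := inferInstance
    let g : Y ⟶ 𝔸(ULift.{u} (Fin d); S) := e ≫ Sga4B.IterP1.toInit d S
    have he : SmoothOfRelativeDimension 0 e := inferInstance
    have h1 : SmoothOfRelativeDimension (0 + 1) (e ≫ Sga4B.IterP1.toInit d S) := inferInstance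
    have hg : SmoothOfRelativeDimension 1 g := h1
    obtain ⟨T'', c, hc, hn, hP, X', r, q, hr, hq, hX', hfib⟩ :=
      exists_step k (𝔸(ULift.{u} (Fin d); S) ↘ S) g hf
        (fun {T''} _ => ∀ n : ℕ, Subsingleton (Coh.HH T'' (Coh.structureModule T'') (n + 1)))
        (fun T' b hb => ih (𝟙 _) b hb)
    exact ⟨X', r, hr, hX', subsingleton_HH_step k hK (𝔸(ULift.{u} (Fin d); S) ↘ S) g hc hn hP hq hX' hfib⟩

end K97.Acyclic
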