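import Groth.Agent.RatRes.K97.PushPull
import Groth.Agent.RatRes.K97.DimTools
import Groth.Agent.S3637
import Groth.Agent.S3635
import Groth.Agent.S1766
import Groth.Agent.S0998
import Groth.Prelude.Def_Canon

/-!
# Dualizing sheaves and proper birational morphisms (proper case)

* `concentrated`: the dualizing complex of an integral Cohen–Macaulay scheme proper over a field sits in one degree;
* `push_topDiff`: `π_* ω_Y = ω_X` for `Y` smooth and `Rπ_* O_Y = O_X`;
* `rpush_dualizing`: `R^p π_* ω_X = 0` for `p > 0` and `π_* ω_X = ω_Y` for Cohen–Macaulay `X`, `Y`, `Rπ_* O_X = O_Y`.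
-/

set_option autoImplicit false
universe u
open CategoryTheory CategoryTheory.Limits AlgebraicGeometry
attribute [local instance] HasDerivedCategory.standard

namespace K97.ProperRows

open Groth.Agent K97.DimTools K97.PushPull

variable {k : Type u} [Field k]

/-- The dualizing complex of an integral Cohen–Macaulay scheme proper over a field sits in degree `-d`. -/
theorem concentrated {X : Scheme.{u}} (a : X ⟶ Spec (CommRingCat.of k)) [IsProper a] [IsIntegral X]
    (hCM : ∀ x : X, LocCoh.IsCohenMacaulayLocalRing (X.presheaf.stalk x)) (d : ℕ) (hd : topologicalKrullDim X = d)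
    [DCoh.HasRpush a] (ha : DCoh.RpushPreservesQCoh a)
    {a' : DCoh.DQCoh (Spec (CommRingCat.of k)) ⥤ DCoh.DQCoh X} (adj : DCoh.RpushQ a ha ⊣ a')
    (O : DCoh.DQCoh (Spec (CommRingCat.of k)))
    (hO : Nonempty (O.obj ≅ DCoh.inD (Spec (CommRingCat.of k)) (Coh.structureModule (Spec (CommRingCat.of k)))))
    (i : ℤ) (hi : i ≠ -(d : ℤ)) : IsZero (DCoh.HD (a'.obj O).obj i) :=
  (S3637.result k X a hCM d (fun Z hZ => dim_irreducibleComponents d hd Z hZ) ha a' adj O hO).1 i hi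

/-- `π_* ω_Y = ω_X` for `Y` smooth, `X` Cohen–Macaulay and proper, `Rπ_* O_Y = O_X`. -/
theorem push_topDiff (d : ℕ) {Y X : Scheme.{u}} (aX : X ⟶ Spec (CommRingCat.of k))
    (aY : Y ⟶ Spec (CommRingCat.of k)) [IsProper aX] [SmoothOfRelativeDimension d aY] [IsIntegral Y] [IsIntegral X]
    (hCM : ∀ x : X, LocCoh.IsCohenMacaulayLocalRing (X.presheaf.stalk x))
    (π : Y ⟶ X) (hπ : π ≫ aX = aY) [IsProper π]
    (hbir : ∃ U : X.Opens, (U : Set X).Nonempty ∧ IsIso (π ∣_ U))
    [HasInjectiveResolutions Y.Modules] (h0 : IsIso (ClSub.unitToPush π))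
    (hp : ∀ p : ℕ, 0 < p → IsZero ((Coh.Rpush π p).obj (Coh.structureModule Y)))
    (ωY : Y.Modules) (hωY : Canon.IsTopDiff aY d ωY)
    [DCoh.HasRpush aX] (h : DCoh.RpushPreservesQCoh aX) [DCoh.HasShriek aX h]
    (Ok : DCoh.DQCoh (Spec (CommRingCat.of k)))
    (hOk : Nonempty (Ok.obj ≅ DCoh.inD (Spec (CommRingCat.of k)) (Coh.structureModule (Spec (CommRingCat.of k))))) :
    (∀ n : ℤ, n ≠ -(d : ℤ) → IsZero (DCoh.HD (DCoh.dualizingCx aX h Ok) n)) ∧
      Nonempty ((Coh.push π).obj ωY ≅ DCoh.dualizingMod aX h Ok d) := by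
  have hpr : IsProper aY := by rw [← hπ]; infer_instance
  have hdX : topologicalKrullDim X = d := by
    rw [← dim_eq_of_birational aX π hbir, dim_of_smooth aY d]
  refine ⟨fun n hn => concentrated aX hCM d hdX h (DCoh.shriekAdj aX h) Ok hOk n hn, ?_⟩
  have hY1 : CompactSpace Y := QuasiCompact.compactSpace_of_compactSpace aY
  have hY2 : QuasiSeparatedSpace Y := quasiSeparatedSpace_of_quasiSeparated aY
  have hrb : DCoh.HasRpush aY := PerfA.ExtPush.hasRpush aY
  have hrπ : DCoh.HasRpush π := PerfA.ExtPush.hasRpush π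
  have hlπ : DCoh.HasLpull π := PerfC.PullKFlat.hasLpull π
  have hb : DCoh.RpushPreservesQCoh aY := fun K hK => S0998.result aY K hK
  have hπQ : DCoh.RpushPreservesQCoh π := fun K hK => S0998.result π K hK
  have hl : (DCoh.RpushQ aY hb).IsLeftAdjoint := S1766.result Y (Spec (CommRingCat.of k)) aY hb
  let adjb := Adjunction.ofIsLeftAdjoint (DCoh.RpushQ aY hb)
  obtain ⟨e2⟩ := S3635.result (Spec (CommRingCat.of k)) Y d aY hb _ adjb Ok hOk ωY hωY
  obtain ⟨e1⟩ := nonempty_rpush_shriek_obj π (nonempty_rpush_unit π h0 hp) aX aY hπ hπQ h hb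
    (DCoh.shriekAdj aX h) adjb Ok
  exact Single.push_iso π _ ωY d (e2 ≪≫ Single.shiftIso d ωY) _ e1

/-- `R^p π_* ω_X = 0` for `p > 0` and `π_* ω_X = ω_Y` for Cohen–Macaulay proper `X`, `Y` with `Rπ_* O_X = O_Y`. -/
theorem rpush_dualizing (d : ℕ) {X Y : Scheme.{u}} (aX : X ⟶ Spec (CommRingCat.of k))
    (aY : Y ⟶ Spec (CommRingCat.of k)) [IsProper aX] [IsProper aY] [IsIntegral X] [IsIntegral Y]
    (hCMX : ∀ x : X, LocCoh.IsCohenMacaulayLocalRing (X.presheaf.stalk x))
    (hCMY : ∀ y : Y, LocCoh.IsCohenMacaulayLocalRing (Y.presheaf.stalk y))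
    (hdX : topologicalKrullDim X = d) (hdY : topologicalKrullDim Y = d)
    (π : X ⟶ Y) (hπ : π ≫ aY = aX) [HasInjectiveResolutions X.Modules] (h0 : IsIso (ClSub.unitToPush π))
    (hp : ∀ p : ℕ, 0 < p → IsZero ((Coh.Rpush π p).obj (Coh.structureModule X)))
    [DCoh.HasRpush aX] (hX : DCoh.RpushPreservesQCoh aX) [DCoh.HasShriek aX hX]
    [DCoh.HasRpush aY] (hY : DCoh.RpushPreservesQCoh aY) [DCoh.HasShriek aY hY]
    (Ok : DCoh.DQCoh (Spec (CommRingCat.of k)))
    (hOk : Nonempty (Ok.obj ≅ DCoh.inD (Spec (CommRingCat.of k)) (Coh.structureModule (Spec (CommRingCat.of k))))) :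
    (∀ p : ℕ, 0 < p → IsZero ((Coh.Rpush π p).obj (DCoh.dualizingMod aX hX Ok d))) ∧
      Nonempty ((Coh.push π).obj (DCoh.dualizingMod aX hX Ok d) ≅ DCoh.dualizingMod aY hY Ok d) := by
  have hprc : IsProper (π ≫ aY) := by rw [hπ]; infer_instance
  have hpr : IsProper π := IsProper.of_comp π aY
  have hrπ : DCoh.HasRpush π := PerfA.ExtPush.hasRpush π
  have hlπ : DCoh.HasLpull π := PerfC.PullKFlat.hasLpull π
  have hπQ : DCoh.RpushPreservesQCoh π := fun K hK => S0998.result π K hK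
  have hcX := concentrated aX hCMX d hdX hX (DCoh.shriekAdj aX hX) Ok hOk
  have hcY := concentrated aY hCMY d hdY hY (DCoh.shriekAdj aY hY) Ok hOk
  obtain ⟨e1⟩ := nonempty_rpush_shriek_obj π (nonempty_rpush_unit π h0 hp) aY aX hπ hπQ hY hX
    (DCoh.shriekAdj aY hY) (DCoh.shriekAdj aX hX) Ok
  obtain ⟨e⟩ := Single.nonempty_iso_single _ (-(d : ℤ)) hcX
  exact ⟨fun p hp => Single.rpush_isZero π _ _ d e _ e1 hcY p hp, Single.push_iso π _ _ d e _ e1⟩

end K97.ProperRows
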