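import Groth.Agent.RatRes.K97.Models
import Groth.Agent.TopDim.K284.Basic
import Groth.Agent.Dual.H317.QFDim
import Groth.Agent.CycB.Push
import Mathlib.AlgebraicGeometry.ZariskisMainTheorem

/-!
# Modifications of a finite cover are dominated by covers of modifications

* `exists_strict`: the strict transform of a dominant morphism along a modification of the target.
* `ext_of_modif`: uniqueness of lifts along modifications.
* `exists_finite_dominating`: for `f : Y' ⟶ Y` finite dominant, a modification `q : W ⟶ Y'` and a modification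
  `b₀ : Z₀ ⟶ Y` there are normal modifications `Z ⟶ Z₀`, `W' ⟶ W` and a finite surjective `g : W' ⟶ Z` over `f`.
-/

set_option autoImplicit false
universe u
open CategoryTheory CategoryTheory.Limits AlgebraicGeometry TopologicalSpace Opposite Topology

namespace K97.TameDom

open Groth.Agent.CurvesC.ModDim Groth.Agent.CurvesC.Modif K97.ModTools K97.Models K376.Dominate
open Groth.Agent

/-- A dominant morphism of integral schemes maps the generic point to the generic point. -/
theorem map_genericPoint' {X Y : Scheme.{u}} [IsIntegral X] [IsIntegral Y] (f : X ⟶ Y) [IsDominant f] :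
    f (genericPoint X) = genericPoint Y := Ega4fib.H112.FibreFormula.map_genericPoint f

/-- The strict transform. -/
theorem exists_strict {X Y Z : Scheme.{u}} [IsIntegral X] [IsIntegral Y] (F : X ⟶ Y) [IsDominant F]
    {b : Z ⟶ Y} (hb : IsModif b) :
    ∃ (Z' : Scheme.{u}) (i : Z' ⟶ pullback F b), IsClosedImmersion i ∧ IsModif (i ≫ pullback.fst F b) := by
  obtain ⟨U, hU, hbU⟩ := hb.exists_isIso
  have := hb.proper
  have hη : genericPoint Y ∈ U := ((genericPoint_spec Y).mem_open_set_iff U.isOpen).mpr (by simpa using hU)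
  have hηX : genericPoint X ∈ F ⁻¹ᵁ U := by
    change F (genericPoint X) ∈ U
    rw [map_genericPoint']
    exact hη
  have hfst : IsIso (pullback.fst F b ∣_ (F ⁻¹ᵁ U)) :=
    isIso_restrict_of_isPullback (IsPullback.of_hasPullback F b).flip U _ le_rfl
  let V := pullback.fst F b ⁻¹ᵁ (F ⁻¹ᵁ U)
  have hne : Nonempty (F ⁻¹ᵁ U).toScheme := ⟨⟨_, hηX⟩⟩
  have hint : IsIntegral (F ⁻¹ᵁ U).toScheme := inferInstance
  have hVne : Nonempty V.toScheme := ⟨inv (pullback.fst F b ∣_ (F ⁻¹ᵁ U)) (Classical.arbitrary _)⟩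
  have hV : IsIntegral V.toScheme := isIntegral_of_isOpenImmersion (pullback.fst F b ∣_ (F ⁻¹ᵁ U))
  obtain ⟨Z', i, hi, hint', hiso, -⟩ := exists_closure V
  refine ⟨Z', i, hi, inferInstance, hint', F ⁻¹ᵁ U, ⟨_, hηX⟩, ?_⟩
  rw [morphismRestrict_comp]
  exact IsIso.comp_isIso' hiso hfst

/-- Uniqueness of lifts along a modification. -/
theorem ext_of_modif {W Z Y : Scheme.{u}} [IsIntegral W] [IsIntegral Y] {r : Z ⟶ Y} (hr : IsModif r)
    (u v : W ⟶ Z) [IsDominant (u ≫ r)] (h : u ≫ r = v ≫ r) : u = v := by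
  obtain ⟨U, hU, hrU⟩ := hr.exists_isIso
  have := hr.proper
  have hη : genericPoint Y ∈ U := ((genericPoint_spec Y).mem_open_set_iff U.isOpen).mpr (by simpa using hU)
  have hηW : genericPoint W ∈ (u ≫ r) ⁻¹ᵁ U := by
    change (u ≫ r) (genericPoint W) ∈ U
    rw [map_genericPoint']
    exact hη
  let V := (u ≫ r) ⁻¹ᵁ U
  have hne : Nonempty V.toScheme := ⟨⟨_, hηW⟩⟩
  have hdom : IsDominant V.ι := by
    refine ⟨?_⟩
    have h1 : Set.range V.ι = (V : Set W) := Scheme.Opens.range_ι V
    rw [DenseRange, h1]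
    exact V.2.dense ⟨_, hηW⟩
  have h2 : V.ι ≫ u = V.ι ≫ v := by
    have hu : Set.range (V.ι ≫ u) ⊆ (r ⁻¹ᵁ U : Z.Opens) := by
      rintro _ ⟨x, rfl⟩
      rw [Scheme.Hom.comp_apply]
      exact x.2
    have hv : Set.range (V.ι ≫ v) ⊆ (r ⁻¹ᵁ U : Z.Opens) := by
      rintro _ ⟨x, rfl⟩
      rw [Scheme.Hom.comp_apply]
      have h3 : (v ≫ r) (V.ι x) ∈ U := by
        rw [← h]
        exact x.2
      exact h3
    rw [← IsOpenImmersion.lift_fac (r ⁻¹ᵁ U).ι (V.ι ≫ u) (by rwa [Scheme.Opens.range_ι]),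
      ← IsOpenImmersion.lift_fac (r ⁻¹ᵁ U).ι (V.ι ≫ v) (by rwa [Scheme.Opens.range_ι])]
    congr 1
    rw [← cancel_mono (r ∣_ U), ← cancel_mono U.ι, Category.assoc, Category.assoc, morphismRestrict_ι,
      ← Category.assoc, ← Category.assoc, IsOpenImmersion.lift_fac, IsOpenImmersion.lift_fac, Category.assoc,
      Category.assoc, h]
  exact ext_of_isDominant_of_isSeparated r h V.ι h2

/-- The fibre of a quasi-compact morphism locally of finite type is Noetherian. -/
theorem noetherianSpace_fiber {W Y : Scheme.{u}} (g : W ⟶ Y) [LocallyOfFiniteType g] [QuasiCompact g] (y : Y) :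
    NoetherianSpace (g.fiber y) := by
  have : LocallyOfFiniteType (g.fiberToSpecResidueField y) := inferInstanceAs (LocallyOfFiniteType (pullback.snd _ _))
  have : IsLocallyNoetherian (g.fiber y) := LocallyOfFiniteType.isLocallyNoetherian (g.fiberToSpecResidueField y)
  have : IsNoetherian (g.fiber y) := {}
  infer_instance

/-- A proper morphism with fibres of dimension `≤ 0` is finite. -/
theorem isFinite_of_dim_le_zero {X Y : Scheme.{u}} (f : X ⟶ Y) [IsProper f]
    (h : ∀ y : Y, topologicalKrullDim (f.fiber y) ≤ 0) : IsFinite f := by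
  have hlqf : LocallyQuasiFinite f := by
    refine LocallyQuasiFinite.of_finite_preimage_singleton f fun y => ?_
    have hN := noetherianSpace_fiber f y
    have hfin := (K284.TopDim.finite_discrete_of_dim_le_zero (h y)).1
    rw [← Scheme.Hom.range_fiberι]
    exact Set.finite_range _
  exact IsFinite.of_isProper_of_locallyQuasiFinite f

/-- Only the generic point of a modification maps to the generic point. -/
theorem eq_genericPoint {Z Y : Scheme.{u}} [IsIntegral Z] [IsIntegral Y] {r : Z ⟶ Y} (hr : IsModif r) (z : Z)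
    (hz : r z = genericPoint Y) : z = genericPoint Z := by
  obtain ⟨U, hU, hrU⟩ := hr.exists_isIso
  have hη : genericPoint Y ∈ U := ((genericPoint_spec Y).mem_open_set_iff U.isOpen).mpr (by simpa using hU)
  have hzU : z ∈ r ⁻¹ᵁ U := by
    change r z ∈ U
    rw [hz]
    exact hη
  have hgU : genericPoint Z ∈ r ⁻¹ᵁ U := by
    change r (genericPoint Z) ∈ U
    rw [map_genericPoint hr]
    exact hη
  have h1 : (r ∣_ U) ⟨z, hzU⟩ = (r ∣_ U) ⟨genericPoint Z, hgU⟩ := by
    apply U.ι.isOpenEmbedding.injective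
    rw [← Scheme.Hom.comp_apply, ← Scheme.Hom.comp_apply, morphismRestrict_ι]
    change r z = r (genericPoint Z)
    rw [hz, map_genericPoint hr]
  have h2 := (r ∣_ U).isOpenEmbedding.injective h1
  exact congrArg Subtype.val h2

/-- The residue field of the generic point of a modification. -/
theorem isIso_residueFieldMap {Z Y : Scheme.{u}} [IsIntegral Z] [IsIntegral Y] {r : Z ⟶ Y} (hr : IsModif r)
    (z : Z) (hz : z = genericPoint Z) : IsIso (r.residueFieldMap z) := by
  subst hz
  obtain ⟨U, hU, hrU⟩ := hr.exists_isIso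
  have hη : genericPoint Y ∈ U := ((genericPoint_spec Y).mem_open_set_iff U.isOpen).mpr (by simpa using hU)
  have hgU : genericPoint Z ∈ r ⁻¹ᵁ U := by
    change r (genericPoint Z) ∈ U
    rw [map_genericPoint hr]
    exact hη
  have h1 := Scheme.residueFieldMap_comp (r ⁻¹ᵁ U).ι r ⟨genericPoint Z, hgU⟩
  have h2 := Scheme.residueFieldMap_comp (r ∣_ U) U.ι ⟨genericPoint Z, hgU⟩
  have h3 : IsIso (((r ⁻¹ᵁ U).ι ≫ r).residueFieldMap ⟨genericPoint Z, hgU⟩) := by
    rw [Scheme.Hom.residueFieldMap_congr (morphismRestrict_ι r U).symm, h2]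
    have h5 : IsIso (U.ι.residueFieldMap ((r ∣_ U) ⟨genericPoint Z, hgU⟩)) := inferInstance
    have h6 : IsIso ((r ∣_ U).residueFieldMap ⟨genericPoint Z, hgU⟩) := inferInstance
    exact IsIso.comp_isIso' inferInstance (IsIso.comp_isIso' h5 h6)
  rw [h1] at h3
  have h4 : IsIso ((r ⁻¹ᵁ U).ι.residueFieldMap ⟨genericPoint Z, hgU⟩) := inferInstance
  exact @IsIso.of_isIso_comp_right _ _ _ _ _ (r.residueFieldMap ((r ⁻¹ᵁ U).ι ⟨genericPoint Z, hgU⟩))
    ((r ⁻¹ᵁ U).ι.residueFieldMap ⟨genericPoint Z, hgU⟩) h4 h3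

theorem residueDegree_modif {Z Y : Scheme.{u}} [IsIntegral Z] [IsIntegral Y] {r : Z ⟶ Y} (hr : IsModif r)
    (z : Z) (hz : z = genericPoint Z) : r.residueDegree z = 1 := by
  have h := isIso_residueFieldMap hr z hz
  let _ := (r.residueFieldMap z).hom.toAlgebra
  have hb : Function.Bijective (algebraMap (Y.residueField (r z)) (Z.residueField z)) :=
    ConcreteCategory.bijective_of_isIso (r.residueFieldMap z)
  change Module.finrank (Y.residueField (r z)) (Z.residueField z) = 1
  rw [← Module.finrank_self (Y.residueField (r z))]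
  exact (LinearEquiv.ofBijective (Algebra.linearMap (Y.residueField (r z)) (Z.residueField z))
    hb).finrank_eq.symm

/-- The degree is invariant under modifications. -/
theorem residueDegree_eq {Y Y' Z W : Scheme.{u}} [IsIntegral Y] [IsIntegral Y'] [IsIntegral Z] [IsIntegral W]
    (f : Y' ⟶ Y) [IsDominant f] (g : W ⟶ Z) {r : Z ⟶ Y} {s : W ⟶ Y'} (hr : IsModif r) (hs : IsModif s)
    (h : g ≫ r = s ≫ f) :
    g.residueDegree (genericPoint W) = f.residueDegree (genericPoint Y') := by
  have h1 := CycB.Push.residueDegree_comp g r (genericPoint W)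
  have h2 := CycB.Push.residueDegree_comp s f (genericPoint W)
  have h3 : g (genericPoint W) = genericPoint Z := by
    apply eq_genericPoint hr
    rw [← Scheme.Hom.comp_apply, h, Scheme.Hom.comp_apply, map_genericPoint hs, map_genericPoint']
  rw [residueDegree_modif hr _ h3, one_mul] at h1
  rw [residueDegree_modif hs _ rfl, mul_one, map_genericPoint hs] at h2
  rw [← h1, ← h2]
  simp only [h]

/-- Modifications of a finite cover are dominated by finite covers of modifications. -/
theorem exists_finite_dominating (k : Type u) [Field k] {Y Y' W Z₀ : Scheme.{u}} (a : Y ⟶ Spec (CommRingCat.of k))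
    [LocallyOfFiniteType a] [CompactSpace Y] [QuasiSeparatedSpace Y] [IsIntegral Y] [IsIntegral Y'] (f : Y' ⟶ Y)
    [IsFinite f] [IsDominant f] {q : W ⟶ Y'} (hq : IsModif q) {b₀ : Z₀ ⟶ Y} (hb₀ : IsModif b₀) :
    ∃ (Z W' : Scheme.{u}) (r : Z ⟶ Z₀) (g : W' ⟶ Z) (s : W' ⟶ W), IsModif r ∧ Pi1.IsNormalScheme Z ∧
      IsFinite g ∧ Surjective g ∧ IsModif s ∧ Pi1.IsNormalScheme W' ∧ g ≫ r ≫ b₀ = s ≫ q ≫ f := by
  have := hq.proper
  have := hq.integral
  have := hq.surjective
  have := hb₀.integral
  have hk : K375.NagSch.IsNag (Spec (CommRingCat.of k)) :=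
    K375.NagSch.isNag_Spec (A := CommRingCat.of k) (isNagata_field k)
  have hYn := K375.NagSch.isNag_of_locallyOfFiniteType a hk
  have : IsLocallyNoetherian Y := hYn.isLocallyNoetherian
  let F := q ≫ f
  have : LocallyOfFinitePresentation F := lfp_of_isLocallyNoetherian F
  have hdim : topologicalKrullDim (F.fiber (genericPoint Y)) ≤ 0 :=
    dim_generic_fiber_le hq f 0 fun y =>
      (Flat2G.ProperDim.topologicalKrullDim_fiber_le_iff f (f y) 0).1
        (Dual.H317.QFDim.fibreDimLE_zero f (f y)) y rfl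
  obtain ⟨T', b, Z, i, hb, hi, hZ1, hZ2⟩ := exists_flattening F 0 hdim
  obtain ⟨X₃, j, hj, hX₃⟩ := exists_dominating_closed hb hb₀
  have := hX₃.integral
  have := hX₃.proper
  have : QuasiSeparatedSpace X₃ := quasiSeparatedSpace_of_quasiSeparated (j ≫ pullback.fst b b₀ ≫ b)
  have i1 : QuasiCompact (X₃.fromSpecStalk (genericPoint X₃)) := inferInstance
  have i2 : QuasiSeparated (X₃.fromSpecStalk (genericPoint X₃)) := inferInstance
  have hN : K375.NagSch.IsNag X₃ := K375.NagSch.isNag_of_locallyOfFiniteType (j ≫ pullback.fst b b₀ ≫ b) hYn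
  have hν := Resolve.K375.NagNorm.isModif_normalizationι X₃ hN
  obtain ⟨-, hnorm, -, -⟩ := S2351.result X₃
  let T'' := Curv2.normalization X₃
  let ν : T'' ⟶ X₃ := Curv2.normalizationι X₃
  let c : T'' ⟶ Y := ν ≫ j ≫ pullback.fst b b₀ ≫ b
  have hc : IsModif c := hν.comp hX₃
  have := hc.integral
  have := hc.proper
  let h : T'' ⟶ T' := ν ≫ j ≫ pullback.fst b b₀
  have hhc : h ≫ b = c := by simp only [h, c, Category.assoc]
  let r : T'' ⟶ Z₀ := ν ≫ j ≫ pullback.snd b b₀
  have hrc : r ≫ b₀ = c := by simp only [r, c, Category.assoc, pullback.condition]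
  have hr : IsModif r := isModif_of_comp (g := b₀) (by rw [hrc]; exact hc) hb₀
  obtain ⟨Z', i', hi', hZ'⟩ := exists_strict F hc
  have := hZ'.integral
  have := hZ'.proper
  -- fibre dimensions
  let μ : pullback F c ⟶ pullback F b := pullback.lift (pullback.fst F c) (pullback.snd F c ≫ h)
    (by rw [pullback.condition, Category.assoc, hhc])
  have hμ : IsPullback μ (pullback.snd F c) (pullback.snd F b) h := by
    refine IsPullback.of_right (h₁₂ := pullback.fst F b) (v₁₃ := F) (h₂₂ := b) ?_ (pullback.lift_snd _ _ _)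
      (IsPullback.of_hasPullback F b)
    rw [show μ ≫ pullback.fst F b = pullback.fst F c from pullback.lift_fst _ _ _, hhc]
    exact IsPullback.of_hasPullback F c
  have hZ₂ : IsPullback (pullback.snd μ i) (pullback.fst μ i ≫ pullback.snd F c) (i ≫ pullback.snd F b) h :=
    (IsPullback.of_hasPullback μ i).flip.paste_vert hμ
  have hgenF : F (genericPoint W) = genericPoint Y := map_genericPoint' F
  have hrange : Set.range i' ⊆ Set.range (pullback.fst μ i) := by
    have h1 : Set.range (pullback.fst μ i) = μ ⁻¹' Set.range i := Scheme.Pullback.range_fst μ i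
    rw [h1]
    rintro _ ⟨x, rfl⟩
    have hcl : IsClosed (μ ⁻¹' Set.range i) := i.isClosedEmbedding.isClosed_range.preimage μ.continuous
    have hgen : i' (genericPoint Z') ∈ μ ⁻¹' Set.range i := by
      apply hZ2
      have e1 : i' ≫ μ ≫ pullback.snd F b ≫ b = (i' ≫ pullback.fst F c) ≫ F := by
        rw [← pullback.condition, ← Category.assoc μ,
          show μ ≫ pullback.fst F b = pullback.fst F c from pullback.lift_fst _ _ _, Category.assoc]
      have e2 : b (pullback.snd F b (μ (i' (genericPoint Z')))) = (i' ≫ μ ≫ pullback.snd F b ≫ b) (genericPoint Z') := by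
        simp only [Scheme.Hom.comp_apply]
      rw [e2, e1, Scheme.Hom.comp_apply, map_genericPoint hZ', hgenF]
    exact (hcl.stableUnderSpecialization ((genericPoint_specializes x).map i'.continuous)) hgen
  have hZ'dim : ∀ t : T'', topologicalKrullDim ((i' ≫ pullback.snd F c).fiber t) ≤ 0 := by
    intro t
    refine (dim_immersion_le_of_range (pullback.snd F c) i' (pullback.fst μ i) hrange t).trans ?_
    rw [Flat2G.ProperDim.topologicalKrullDim_fiber_baseChange _ _ _ h hZ₂ t]
    exact hZ1 _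
  have hfin : IsFinite (i' ≫ pullback.snd F c) := isFinite_of_dim_le_zero _ hZ'dim
  -- normalization
  have hN' : K375.NagSch.IsNag Z' :=
    K375.NagSch.isNag_of_locallyOfFiniteType ((i' ≫ pullback.fst F c) ≫ F) hYn
  have : QuasiSeparatedSpace Z' := quasiSeparatedSpace_of_quasiSeparated ((i' ≫ pullback.fst F c) ≫ F)
  have i3 : QuasiCompact (Z'.fromSpecStalk (genericPoint Z')) := inferInstance
  have i4 : QuasiSeparated (Z'.fromSpecStalk (genericPoint Z')) := inferInstance
  have hν' := Resolve.K375.NagNorm.isModif_normalizationι Z' hN'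
  have hνf' := K375.NagSch.isFinite_normalizationι Z' hN'
  obtain ⟨-, hnorm', -, -⟩ := S2351.result Z'
  have := hν'.integral
  let g : Curv2.normalization Z' ⟶ T'' := Curv2.normalizationι Z' ≫ i' ≫ pullback.snd F c
  have hg : IsFinite g := inferInstance
  have hsm : IsModif (Curv2.normalizationι Z' ≫ i' ≫ pullback.fst F c) := hν'.comp hZ'
  have hgc : g ≫ c = (Curv2.normalizationι Z' ≫ i' ≫ pullback.fst F c) ≫ F := by
    simp only [g, Category.assoc]
    rw [pullback.condition]
  have hgη : g (genericPoint (Curv2.normalization Z')) = genericPoint T'' := by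
    apply eq_genericPoint hc
    rw [← Scheme.Hom.comp_apply, hgc, Scheme.Hom.comp_apply, map_genericPoint hsm, hgenF]
  refine ⟨T'', Curv2.normalization Z', r, g, Curv2.normalizationι Z' ≫ i' ≫ pullback.fst F c, hr, hnorm, hg, ?_,
    hsm, hnorm', ?_⟩
  · refine ⟨fun t => ?_⟩
    have hcl : IsClosed (Set.range g) := g.isClosedMap.isClosed_range
    exact (hcl.stableUnderSpecialization (genericPoint_specializes t)) (hgη ▸ ⟨_, rfl⟩)
  · rw [hrc, hgc]

/-- The form with the strict transform given first. -/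
theorem exists_strict_then_finite (k : Type u) [Field k] {X X' W : Scheme.{u}} (a : X ⟶ Spec (CommRingCat.of k))
    [LocallyOfFiniteType a] [CompactSpace X] [QuasiSeparatedSpace X] [IsIntegral X] [IsIntegral X'] (f' : X' ⟶ X)
    [IsFinite f'] [IsDominant f'] {p : W ⟶ X} (hp : IsModif p) :
    ∃ (W₁ : Scheme.{u}) (r₁ : W₁ ⟶ X') (b : W₁ ⟶ W), IsModif r₁ ∧ b ≫ p = r₁ ≫ f' ∧
      ∀ (W₁' : Scheme.{u}) (h₁ : W₁' ⟶ W₁), IsModif h₁ →
        ∃ (W' W'' : Scheme.{u}) (h : W' ⟶ W) (a' : W'' ⟶ W') (c : W'' ⟶ W₁'), IsModif h ∧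
          Pi1.IsNormalScheme W' ∧ IsFinite a' ∧ Surjective a' ∧ IsModif c ∧ Pi1.IsNormalScheme W'' ∧
          c ≫ h₁ ≫ b = a' ≫ h ∧ ∃ (_ : IsIntegral W''),
          a'.residueDegree (genericPoint W'') = f'.residueDegree (genericPoint X') := by
  obtain ⟨W₁, i, hi, hW₁⟩ := exists_strict f' hp
  have hcomm : (i ≫ pullback.snd f' p) ≫ p = (i ≫ pullback.fst f' p) ≫ f' := by
    rw [Category.assoc, Category.assoc, pullback.condition]
  refine ⟨W₁, i ≫ pullback.fst f' p, i ≫ pullback.snd f' p, hW₁, hcomm, fun W₁' h₁ hh₁ => ?_⟩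
  obtain ⟨W', W'', r, g, s, hr, hn, hg, hgs, hs, hn', e⟩ :=
    exists_finite_dominating k a f' (hh₁.comp hW₁) hp
  have := hr.integral
  have := hs.integral
  have := hs.proper
  have := hp.integral
  have hrp : IsModif (r ≫ p) := hr.comp hp
  have hsq : IsModif (s ≫ h₁ ≫ i ≫ pullback.fst f' p) := hs.comp (hh₁.comp hW₁)
  have e' : g ≫ r ≫ p = (s ≫ h₁ ≫ i ≫ pullback.fst f' p) ≫ f' := by
    rw [e]
    simp only [Category.assoc]
  refine ⟨W', W'', r, g, s, hr, hn, hg, hgs, hs, hn', ?_, inferInstance, residueDegree_eq f' g hrp hsq e'⟩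
  have hdom : IsDominant ((s ≫ h₁ ≫ i ≫ pullback.snd f' p) ≫ p) := by
    have h3 : (s ≫ h₁ ≫ i ≫ pullback.snd f' p) ≫ p = g ≫ r ≫ p := by
      rw [e']
      simp only [Category.assoc, pullback.condition]
    rw [h3]
    have := hr.surjective
    have := hrp.surjective
    infer_instance
  refine ext_of_modif hp _ _ ?_
  rw [Category.assoc g, e']
  simp only [Category.assoc, pullback.condition]

end K97.TameDom
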