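import Groth.Agent.RatRes.K97.TameCM
import Groth.Agent.RatRes.K97.TameDom
import Groth.Prelude.Def_ClSub2

/-!
# The normalised trace of a finite morphism of normal integral schemes

* `ntr f x'`: the trace of the residue field extension at `x'`, divided by its degree.
* `exists_tr`: `f : X' ⟶ X` finite dominant, `X`, `X'` normal integral, degree invertible: there is
  `τ : f_* O_X' ⟶ O_X` with `unitToPush f ≫ τ = 𝟙`, given by the normalised trace at the generic point (`IsNTr`).
* `compat`: compatibility of the normalised traces with pull-back along modifications.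
-/

set_option autoImplicit false
universe u
open CategoryTheory CategoryTheory.Limits AlgebraicGeometry TopologicalSpace Opposite

noncomputable section

namespace K97.TameTr

open Groth.Agent

section Fields

variable {X' X : Scheme.{u}} (f : X' ⟶ X) (x' : X')

/-- The normalised trace of the residue field extension. -/
def ntr : X'.residueField x' →+ X.residueField (f x') :=
  letI := (f.residueFieldMap x').hom.toAlgebra
  ((((f.residueDegree x' : ℕ) : X.residueField (f x'))⁻¹) •
    Algebra.trace (X.residueField (f x')) (X'.residueField x')).toAddMonoidHom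

theorem ntr_smul (a : X.residueField (f x')) (b : X'.residueField x') :
    ntr f x' ((f.residueFieldMap x').hom a * b) = a * ntr f x' b := by
  let _ := (f.residueFieldMap x').hom.toAlgebra
  exact ((((f.residueDegree x' : ℕ) : X.residueField (f x'))⁻¹) •
    Algebra.trace (X.residueField (f x')) (X'.residueField x')).map_smul a b

theorem ntr_map (hn : ((f.residueDegree x' : ℕ) : X.residueField (f x')) ≠ 0) (a : X.residueField (f x')) :
    ntr f x' ((f.residueFieldMap x').hom a) = a := by
  let _ := (f.residueFieldMap x').hom.toAlgebra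
  have h := Algebra.trace_algebraMap (S := X'.residueField x') a
  change ((f.residueDegree x' : ℕ) : X.residueField (f x'))⁻¹ *
    Algebra.trace (X.residueField (f x')) (X'.residueField x') (algebraMap _ _ a) = a
  rw [h, nsmul_eq_mul, ← mul_assoc]
  exact (congrArg (· * a) (inv_mul_cancel₀ hn)).trans (one_mul a)

end Fields

theorem ntr_compat {Y Y' Z W : Scheme.{u}} (f : Y' ⟶ Y) (g : W ⟶ Z) (r : Z ⟶ Y) (s : W ⟶ Y')
    (h : g ≫ r = s ≫ f) (w : W) [IsIso (r.residueFieldMap (g w))] [IsIso (s.residueFieldMap w)]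
    (e : f (s w) = r (g w)) (b : Y'.residueField (s w)) :
    ntr g w ((s.residueFieldMap w).hom b) =
      (r.residueFieldMap (g w)).hom ((Y.residueFieldCongr e).hom.hom (ntr f (s w) b)) := by
  let _ := (f.residueFieldMap (s w)).hom.toAlgebra
  let _ := (g.residueFieldMap w).hom.toAlgebra
  let e₁ : Y.residueField (f (s w)) ≃+* Z.residueField (g w) :=
    (Y.residueFieldCongr e ≪≫ asIso (r.residueFieldMap (g w))).commRingCatIsoToRingEquiv
  let e₂ : Y'.residueField (s w) ≃+* W.residueField w := (asIso (s.residueFieldMap w)).commRingCatIsoToRingEquiv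
  have he : RingHom.comp (algebraMap (Z.residueField (g w)) (W.residueField w)) (e₁ : _ →+* _) =
      RingHom.comp (e₂ : _ →+* _) (algebraMap (Y.residueField (f (s w))) (Y'.residueField (s w))) := by
    have h1 := Scheme.residueFieldMap_comp g r w
    have h2 := Scheme.residueFieldMap_comp s f w
    have h3 := Scheme.Hom.residueFieldMap_congr h.symm w
    rw [h1, h2] at h3
    exact (congrArg CommRingCat.Hom.hom h3).symm
  have ht := Algebra.trace_eq_of_equiv_equiv e₁ e₂ he b
  have hf : f.residueDegree (s w) = g.residueDegree w := Algebra.finrank_eq_of_equiv_equiv e₁ e₂ he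
  change ((g.residueDegree w : ℕ) : Z.residueField (g w))⁻¹ *
    Algebra.trace (Z.residueField (g w)) (W.residueField w) (e₂ b) =
    e₁ (((f.residueDegree (s w) : ℕ) : Y.residueField (f (s w)))⁻¹ *
      Algebra.trace (Y.residueField (f (s w))) (Y'.residueField (s w)) b)
  rw [ht, map_mul, RingEquiv.apply_symm_apply, map_inv₀, map_natCast, hf]

theorem evaluation_congr {X : Scheme.{u}} (U : X.Opens) {x y : X} (e : x = y) (hx : x ∈ U) (hy : y ∈ U) (t : Γ(X, U)) :
    (X.residueFieldCongr e).hom.hom ((X.evaluation U x hx).hom t) = (X.evaluation U y hy).hom t := by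
  subst e
  rfl

/-- Sections of an integral scheme are determined by their value at the generic point. -/
theorem evaluation_injective {X : Scheme.{u}} [IsIntegral X] (U : X.Opens) (x : X) (hx : x = genericPoint X)
    (hxU : x ∈ U) : Function.Injective (X.evaluation U x hxU).hom := by
  subst hx
  have hne : Nonempty U := ⟨⟨_, hxU⟩⟩
  have h1 : Function.Injective (X.presheaf.germ U (genericPoint X) hxU).hom :=
    germ_injective_of_isIntegral X (genericPoint X) hxU
  exact (RingHom.injective (R := X.functionField) (X.residue (genericPoint X)).hom).comp h1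

theorem evaluation_res {X : Scheme.{u}} {U V : X.Opens} (h : V ≤ U) (x : X) (hx : x ∈ V) (t : Γ(X, U)) :
    (X.evaluation V x hx).hom ((X.presheaf.map (homOfLE h).op).hom t) = (X.evaluation U x (h hx)).hom t := by
  have h1 : X.presheaf.map (homOfLE h).op ≫ X.evaluation V x hx = X.evaluation U x (h hx) := by
    unfold Scheme.evaluation
    rw [← Category.assoc, X.presheaf.germ_res]
  exact congr($h1 t)

section Exists

variable {X' X : Scheme.{u}} [IsIntegral X'] [IsIntegral X] (f : X' ⟶ X)

/-- The value of the normalised trace, affine case. -/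
theorem exists_affine [IsFinite f] [IsDominant f] (hX : Pi1.IsNormalScheme X) (hX' : Pi1.IsNormalScheme X')
    {U : X.Opens} (hU : IsAffineOpen U) (x' : X') (hx' : x' = genericPoint X') (h : f x' ∈ U)
    (hn : IsUnit ((f.residueDegree x' : ℕ) : Γ(X, U))) (s : Γ(X', f ⁻¹ᵁ U)) :
    ∃ t : Γ(X, U), (X.evaluation U (f x') h).hom t = ntr f x' ((X'.evaluation (f ⁻¹ᵁ U) x' h).hom s) := by
  have hη : f x' = genericPoint X := by
    rw [hx']
    exact TameDom.map_genericPoint' f
  have hneU : Nonempty U := ⟨⟨_, h⟩⟩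
  have hU' : IsAffineOpen (f ⁻¹ᵁ U) := hU.preimage f
  have hneU' : Nonempty (f ⁻¹ᵁ U) := ⟨⟨x', h⟩⟩
  have i1 : IsIntegrallyClosed Γ(X, U) := Ega2.Normal.isIntegrallyClosed_of_isAffineOpen hX hU hneU
  have i2 : IsIntegrallyClosed Γ(X', f ⁻¹ᵁ U) := Ega2.Normal.isIntegrallyClosed_of_isAffineOpen hX' hU' hneU'
  let _ : Algebra Γ(X, U) Γ(X', f ⁻¹ᵁ U) := (f.app U).hom.toAlgebra
  have hfin : Module.Finite Γ(X, U) Γ(X', f ⁻¹ᵁ U) := ((isFinite_iff f).1 ‹_›).2 U hU
  let _ : Algebra Γ(X, U) (X.residueField (f x')) := (X.evaluation U _ h).hom.toAlgebra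
  have i3 : IsFractionRing Γ(X, U) (X.residueField (f x')) := TameCM.isFractionRing_evaluation hU _ hη h
  let _ : Algebra Γ(X', f ⁻¹ᵁ U) (X'.residueField x') := (X'.evaluation (f ⁻¹ᵁ U) _ h).hom.toAlgebra
  have i4 : IsFractionRing Γ(X', f ⁻¹ᵁ U) (X'.residueField x') := TameCM.isFractionRing_evaluation hU' _ hx' h
  let _ : Algebra (X.residueField (f x')) (X'.residueField x') := (f.residueFieldMap x').hom.toAlgebra
  let _ : Algebra Γ(X, U) (X'.residueField x') :=
    ((algebraMap Γ(X', f ⁻¹ᵁ U) (X'.residueField x')).comp (algebraMap Γ(X, U) Γ(X', f ⁻¹ᵁ U))).toAlgebra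
  have t1 : IsScalarTower Γ(X, U) Γ(X', f ⁻¹ᵁ U) (X'.residueField x') :=
    IsScalarTower.of_algebraMap_eq fun _ => rfl
  have t2 : IsScalarTower Γ(X, U) (X.residueField (f x')) (X'.residueField x') := by
    refine IsScalarTower.of_algebraMap_eq fun s => ?_
    have h := Scheme.evaluation_naturality f x' (V := U) h
    exact (congr($h s)).symm
  have hinj : Function.Injective (algebraMap Γ(X, U) Γ(X', f ⁻¹ᵁ U)) := by
    have h1 : Function.Injective (algebraMap Γ(X, U) (X'.residueField x')) := by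
      rw [IsScalarTower.algebraMap_eq Γ(X, U) (X.residueField (f x')) (X'.residueField x'),
        RingHom.coe_comp]
      exact (RingHom.injective _).comp (IsFractionRing.injective Γ(X, U) (X.residueField (f x')))
    rw [IsScalarTower.algebraMap_eq Γ(X, U) Γ(X', f ⁻¹ᵁ U) (X'.residueField x'), RingHom.coe_comp] at h1
    exact Function.Injective.of_comp h1
  have hfs : FaithfulSMul Γ(X, U) Γ(X', f ⁻¹ᵁ U) := (faithfulSMul_iff_algebraMap_injective _ _).mpr hinj
  have htf : Module.IsTorsionFree Γ(X, U) Γ(X', f ⁻¹ᵁ U) := inferInstance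
  have hcl : IsIntegralClosure Γ(X', f ⁻¹ᵁ U) Γ(X, U) (X'.residueField x') :=
    IsIntegralClosure.of_isIntegrallyClosed _ _ _
  have hfd : FiniteDimensional (X.residueField (f x')) (X'.residueField x') := by
    refine Module.finite_of_finrank_pos (Nat.pos_of_ne_zero fun h0 => ?_)
    have h1 : f.residueDegree x' = 0 := h0
    rw [h1, Nat.cast_zero] at hn
    exact not_isUnit_zero hn
  obtain ⟨w, hw⟩ := hn.exists_left_inv
  refine ⟨w * Algebra.intTrace Γ(X, U) Γ(X', f ⁻¹ᵁ U) s, ?_⟩
  have h1 := Algebra.algebraMap_intTrace (A := Γ(X, U)) (K := X.residueField (f x')) (L := X'.residueField x')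
    (B := Γ(X', f ⁻¹ᵁ U)) s
  have h2 : algebraMap Γ(X, U) (X.residueField (f x')) w = ((f.residueDegree x' : ℕ) : X.residueField (f x'))⁻¹ := by
    refine eq_inv_of_mul_eq_one_left ?_
    rw [← map_natCast (algebraMap Γ(X, U) (X.residueField (f x'))), ← map_mul, hw, map_one]
  change algebraMap Γ(X, U) (X.residueField (f x')) (w * Algebra.intTrace Γ(X, U) Γ(X', f ⁻¹ᵁ U) s) =
    ((f.residueDegree x' : ℕ) : X.residueField (f x'))⁻¹ * Algebra.trace (X.residueField (f x')) (X'.residueField x')
      (algebraMap Γ(X', f ⁻¹ᵁ U) (X'.residueField x') s)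
  rw [map_mul, h1, h2]

/-- The value of the normalised trace. -/
theorem exists_value [IsFinite f] [IsDominant f] (hX : Pi1.IsNormalScheme X) (hX' : Pi1.IsNormalScheme X')
    (x' : X') (hx' : x' = genericPoint X') (hn : IsUnit ((f.residueDegree x' : ℕ) : Γ(X, ⊤)))
    (U : X.Opens) (h : f x' ∈ U) (s : Γ(X', f ⁻¹ᵁ U)) :
    ∃ t : Γ(X, U), (X.evaluation U (f x') h).hom t = ntr f x' ((X'.evaluation (f ⁻¹ᵁ U) x' h).hom s) := by
  have hη : f x' = genericPoint X := by
    rw [hx']
    exact TameDom.map_genericPoint' f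
  let ι := {V : X.Opens // IsAffineOpen V ∧ V ≤ U ∧ f x' ∈ V}
  have hV : ∀ V : ι, ∃ t : Γ(X, V.1), (X.evaluation V.1 (f x') V.2.2.2).hom t =
      ntr f x' ((X'.evaluation (f ⁻¹ᵁ U) x' h).hom s) := by
    intro V
    obtain ⟨t, ht⟩ := exists_affine f hX hX' V.2.1 x' hx' V.2.2.2
      (by
        have h1 := hn.map (X.presheaf.map (homOfLE le_top : V.1 ⟶ ⊤).op).hom
        rwa [map_natCast] at h1) ((X'.presheaf.map (homOfLE (f.preimage_mono V.2.2.1)).op).hom s)
    refine ⟨t, ht.trans ?_⟩
    congr 1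
    exact evaluation_res (f.preimage_mono V.2.2.1) x' _ s
  choose tt htt using hV
  have hcompat : TopCat.Presheaf.IsCompatible X.presheaf (fun V : ι => V.1) tt := by
    intro V V'
    have hmem : f x' ∈ V.1 ⊓ V'.1 := ⟨V.2.2.2, V'.2.2.2⟩
    apply evaluation_injective (V.1 ⊓ V'.1) (f x') hη hmem
    have h1 := evaluation_res (inf_le_left : V.1 ⊓ V'.1 ≤ V.1) (f x') hmem (tt V)
    have h2 := evaluation_res (inf_le_right : V.1 ⊓ V'.1 ≤ V'.1) (f x') hmem (tt V')
    exact h1.trans ((htt V).trans ((htt V').symm.trans h2.symm))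
  have hcov : U ≤ ⨆ V : ι, V.1 := by
    intro x hx
    obtain ⟨_, ⟨V, hV, rfl⟩, hxV, hVU⟩ := X.isBasis_affineOpens.exists_subset_of_mem_open hx U.isOpen
    refine Opens.mem_iSup.mpr ⟨⟨V, hV, hVU, ?_⟩, hxV⟩
    rw [hη]
    exact ((genericPoint_spec X).mem_open_set_iff V.isOpen).mpr ⟨x, trivial, hxV⟩
  obtain ⟨t, ht, -⟩ := TopCat.Sheaf.existsUnique_gluing' X.sheaf (fun V : ι => V.1) U
    (fun V => homOfLE V.2.2.1) hcov tt hcompat
  obtain ⟨_, ⟨V, hV, rfl⟩, hxV, hVU⟩ := X.isBasis_affineOpens.exists_subset_of_mem_open h U.isOpen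
  let V' : ι := ⟨V, hV, hVU, hxV⟩
  refine ⟨t, ?_⟩
  rw [← htt V', ← ht V']
  exact (evaluation_res (U := U) (V := V) hVU (f x') hxV t).symm

/-- Sections of `f_* O_X' ⟶ O_X`. -/
def sct {X' X : Scheme.{u}} {f : X' ⟶ X}
    (τ : (Scheme.Modules.pushforward f).obj (Coh.structureModule X') ⟶ Coh.structureModule X) (U : X.Opens)
    (s : Γ(X', f ⁻¹ᵁ U)) : Γ(X, U) := (τ.app U).hom s

/-- `τ` is the normalised trace at the generic point. -/
def IsNTr {X' X : Scheme.{u}} [IsIntegral X'] {f : X' ⟶ X}
    (τ : (Scheme.Modules.pushforward f).obj (Coh.structureModule X') ⟶ Coh.structureModule X) : Prop :=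
  ∀ (x' : X') (_ : x' = genericPoint X') (U : X.Opens) (h : f x' ∈ U) (s : Γ(X', f ⁻¹ᵁ U)),
    (X.evaluation U (f x') h).hom (sct τ U s) = ntr f x' ((X'.evaluation (f ⁻¹ᵁ U) x' h).hom s)

end Exists

section build

variable {X' X : Scheme.{u}} [IsIntegral X'] [IsIntegral X] (f : X' ⟶ X)

theorem ext_sections {X : Scheme.{u}} [IsIntegral X] {U : X.Opens} (x : X) (hx : x = genericPoint X) {t t' : Γ(X, U)}
    (h : ∀ hxU : x ∈ U, (X.evaluation U x hxU).hom t = (X.evaluation U x hxU).hom t') : t = t' := by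
  by_cases hxU : x ∈ U
  · exact evaluation_injective U x hx hxU (h hxU)
  · have hU : U = ⊥ := by
      refine Opens.ext ?_
      rw [Opens.coe_bot, Set.eq_empty_iff_forall_notMem]
      intro y hy
      refine hxU ?_
      rw [hx]
      exact ((genericPoint_spec X).mem_open_set_iff U.isOpen).mpr ⟨y, trivial, hy⟩
    subst hU
    exact Subsingleton.elim _ _

variable {f} in
/-- Two normalised traces agree. -/
theorem IsNTr.unique [IsDominant f]
    {τ τ' : (Scheme.Modules.pushforward f).obj (Coh.structureModule X') ⟶ Coh.structureModule X}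
    (h : IsNTr τ) (h' : IsNTr τ') : τ = τ' := by
  ext U s
  refine ext_sections (f (genericPoint X')) (TameDom.map_genericPoint' f) fun hU => ?_
  exact (h _ rfl U hU s).trans (h' _ rfl U hU s).symm

/-- The normalised trace as a morphism of sheaves. -/
theorem exists_tr [IsFinite f] [IsDominant f] (hX : Pi1.IsNormalScheme X) (hX' : Pi1.IsNormalScheme X')
    (hn : IsUnit ((f.residueDegree (genericPoint X') : ℕ) : Γ(X, ⊤))) :
    ∃ τ : (Scheme.Modules.pushforward f).obj (Coh.structureModule X') ⟶ Coh.structureModule X,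
      ClSub.unitToPush f ≫ τ = 𝟙 _ ∧ IsNTr τ := by
  classical
  have hη : f (genericPoint X') = genericPoint X := TameDom.map_genericPoint' f
  have key := exists_value f hX hX' (genericPoint X') rfl hn
  choose v hv using key
  let F : ∀ U : X.Opens, Γ(X', f ⁻¹ᵁ U) → Γ(X, U) := fun U s =>
    if h : f (genericPoint X') ∈ U then v U h s else 0
  have hF : ∀ (U : X.Opens) (h : f (genericPoint X') ∈ U) (s : Γ(X', f ⁻¹ᵁ U)),
      (X.evaluation U (f (genericPoint X')) h).hom (F U s) =
        ntr f (genericPoint X') ((X'.evaluation (f ⁻¹ᵁ U) (genericPoint X') h).hom s) := by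
    intro U h s
    simp only [F, dif_pos h]
    exact hv U h s
  have hadd : ∀ (U : X.Opens) (s t : Γ(X', f ⁻¹ᵁ U)), F U (s + t) = F U s + F U t := by
    intro U s t
    refine ext_sections _ hη fun h => ?_
    rw [map_add, hF, hF, hF, map_add, map_add]
  have hmul : ∀ (U : X.Opens) (r : Γ(X, U)) (s : Γ(X', f ⁻¹ᵁ U)), F U ((f.app U).hom r * s) = r * F U s := by
    intro U r s
    refine ext_sections _ hη fun h => ?_
    rw [map_mul, hF, hF, map_mul]
    have h1 := Scheme.evaluation_naturality f (genericPoint X') (V := U) h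
    have h2 : (X'.evaluation (f ⁻¹ᵁ U) (genericPoint X') h).hom ((f.app U).hom r) =
        (f.residueFieldMap (genericPoint X')).hom ((X.evaluation U (f (genericPoint X')) h).hom r) :=
      (congr($h1 r)).symm
    rw [h2, ntr_smul]
  have hres : ∀ (U V : X.Opens) (i : V ≤ U) (s : Γ(X', f ⁻¹ᵁ U)),
      F V ((X'.presheaf.map (homOfLE (f.preimage_mono i)).op).hom s) = (X.presheaf.map (homOfLE i).op).hom (F U s) := by
    intro U V i s
    refine ext_sections _ hη fun h => ?_
    rw [hF, evaluation_res i _ h, hF, evaluation_res (f.preimage_mono i)]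
  have hunit : ∀ (U : X.Opens) (r : Γ(X, U)), F U ((f.app U).hom r) = r := by
    intro U r
    refine ext_sections _ hη fun h => ?_
    rw [hF]
    have h1 := Scheme.evaluation_naturality f (genericPoint X') (V := U) h
    have h2 : (X'.evaluation (f ⁻¹ᵁ U) (genericPoint X') h).hom ((f.app U).hom r) =
        (f.residueFieldMap (genericPoint X')).hom ((X.evaluation U (f (genericPoint X')) h).hom r) :=
      (congr($h1 r)).symm
    rw [h2, ntr_map]
    have h3 := hn.map ((X.evaluation ⊤ (f (genericPoint X')) trivial).hom)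
    rw [map_natCast] at h3
    exact h3.ne_zero
  let τ : (Scheme.Modules.pushforward f).obj (Coh.structureModule X') ⟶ Coh.structureModule X :=
    ⟨PresheafOfModules.homMk
      { app := fun U => AddCommGrpCat.ofHom (AddMonoidHom.mk' (F U.unop) (hadd U.unop))
        naturality := fun U V i => by
          ext s
          exact hres U.unop V.unop (leOfHom i.unop) s }
      (fun U r s => hmul U.unop r s)⟩
  refine ⟨τ, ?_, ?_⟩
  · ext U r
    exact hunit U r
  · rintro x' rfl U h s
    exact hF U h s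

end build

/-- Compatibility with modifications. -/
theorem compat {Y Y' Z W : Scheme.{u}} [IsIntegral Y] [IsIntegral Y'] [IsIntegral Z] [IsIntegral W] (f : Y' ⟶ Y)
    [IsDominant f] (g : W ⟶ Z) {r : Z ⟶ Y} {s : W ⟶ Y'} (hr : Groth.Agent.CurvesC.Modif.IsModif r)
    (hs : Groth.Agent.CurvesC.Modif.IsModif s) (h : g ≫ r = s ≫ f)
    {τ : (Scheme.Modules.pushforward f).obj (Coh.structureModule Y') ⟶ Coh.structureModule Y} (hτ : IsNTr τ)
    {τ' : (Scheme.Modules.pushforward g).obj (Coh.structureModule W) ⟶ Coh.structureModule Z} (hτ' : IsNTr τ')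
    (U : Y.Opens) (e : g ⁻¹ᵁ (r ⁻¹ᵁ U) ≤ s ⁻¹ᵁ (f ⁻¹ᵁ U)) (t : Γ(Y', f ⁻¹ᵁ U)) :
    (r.app U).hom (sct τ U t) = sct τ' (r ⁻¹ᵁ U) ((s.appLE (f ⁻¹ᵁ U) (g ⁻¹ᵁ (r ⁻¹ᵁ U)) e).hom t) := by
  have h3 : g (genericPoint W) = genericPoint Z := by
    apply TameDom.eq_genericPoint hr
    rw [← Scheme.Hom.comp_apply, h, Scheme.Hom.comp_apply, ModTools.map_genericPoint hs, TameDom.map_genericPoint']
  have hsW := ModTools.map_genericPoint hs
  refine ext_sections (g (genericPoint W)) h3 fun hU => ?_
  have i1 := TameDom.isIso_residueFieldMap hr (g (genericPoint W)) h3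
  have i2 := TameDom.isIso_residueFieldMap hs (genericPoint W) rfl
  have e1 : f (s (genericPoint W)) = r (g (genericPoint W)) := by
    rw [← Scheme.Hom.comp_apply, ← h, Scheme.Hom.comp_apply]
  have hU1 : f (s (genericPoint W)) ∈ U := by
    rw [e1]
    exact hU
  have h4 := ntr_compat f g r s h (genericPoint W) e1 ((Y'.evaluation (f ⁻¹ᵁ U) (s (genericPoint W)) hU1).hom t)
  rw [← hτ (s (genericPoint W)) hsW U hU1 t, evaluation_congr U e1 hU1 hU] at h4
  have h5 := Scheme.evaluation_naturality r (g (genericPoint W)) (V := U) hU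
  have h6 : (Z.evaluation (r ⁻¹ᵁ U) (g (genericPoint W)) hU).hom ((r.app U).hom (sct τ U t)) =
      (r.residueFieldMap (g (genericPoint W))).hom ((Y.evaluation U (r (g (genericPoint W))) hU).hom (sct τ U t)) :=
    (congr($h5 (sct τ U t))).symm
  rw [h6, ← h4, hτ' (genericPoint W) rfl (r ⁻¹ᵁ U) hU]
  congr 1
  have h7 := Scheme.evaluation_naturality s (genericPoint W) (V := f ⁻¹ᵁ U) hU1
  have h8 : (s.residueFieldMap (genericPoint W)).hom ((Y'.evaluation (f ⁻¹ᵁ U) (s (genericPoint W)) hU1).hom t) =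
      (W.evaluation (s ⁻¹ᵁ (f ⁻¹ᵁ U)) (genericPoint W) hU1).hom ((s.app (f ⁻¹ᵁ U)).hom t) := congr($h7 t)
  rw [h8, ← evaluation_res e (genericPoint W) hU ((s.app (f ⁻¹ᵁ U)).hom t)]
  rfl

end K97.TameTr
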