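import Groth.Agent.RatRes.K97.ModTools
import Groth.Agent.Subtr.K835.Flatten
import Groth.Agent.Flat2G.ProperDim
import Groth.Agent.Ega4fib.H112.FibreFormula
import Groth.Agent.Sga7.H752.GenDim
import Groth.Agent.Resolve.K375.NagNorm
import Groth.Agent.S0404
import Groth.Agent.S2768

/-!
# Flattening of a modification over a base of relative dimension one below

* `dim_closed_fiber`, `dim_fiber_comp_le`: fibre dimensions and immersions, integral morphisms.
* `dim_generic_fiber_le`: the generic fibre of a modification of a scheme with fibres of dimension `≤ n`.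
* `exists_flattening`: after a modification `b : T' ⟶ T` of the base, the main component of `X ×_T T'`
  has fibres of dimension `≤ n` universally.
* `exists_step`: `Y ⟶ T` smooth of relative dimension one, `X ⟶ Y` a modification: for all sufficiently
  high normal modifications `T'' ⟶ T`, the pull-back `V` of `Y` has a normal modification `X'`
  dominating `X` whose fibres over `T''` have dimension `≤ 1`.
-/

set_option autoImplicit false
universe u
open CategoryTheory CategoryTheory.Limits AlgebraicGeometry TopologicalSpace Opposite Topology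

namespace K97.Models

open Groth.Agent.CurvesC.ModDim Groth.Agent.CurvesC.Modif K97.ModTools K376.Dominate
open Groth.Agent

/-- A field is a Nagata ring. -/
theorem isNagata_field (k : Type u) [Field k] : CAlg.IsNagata k := by
  refine ⟨inferInstance, ?_⟩
  intro p hp L _ _ _ _ hfin
  have hp' : p = ⊥ := by
    rcases Ideal.eq_bot_or_top p with h | h
    · exact h
    · exact absurd h hp.ne_top
  have hmax : p.IsMaximal := by rw [hp']; exact Ideal.bot_isMaximal
  let : Field (k ⧸ p) := Ideal.Quotient.field p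
  have hsurj : Function.Surjective (algebraMap (k ⧸ p) (FractionRing (k ⧸ p))) :=
    IsField.localization_map_bijective (M := nonZeroDivisors (k ⧸ p)) zero_notMem_nonZeroDivisors
      (Field.toIsField (k ⧸ p)) |>.2
  have h1 : Module.Finite (k ⧸ p) (FractionRing (k ⧸ p)) :=
    Module.Finite.of_surjective (Algebra.linearMap (k ⧸ p) (FractionRing (k ⧸ p))) hsurj
  have h2 : Module.Finite (k ⧸ p) L := Module.Finite.trans (FractionRing (k ⧸ p)) L
  exact Module.Finite.of_injective (Subalgebra.val (integralClosure (k ⧸ p) L)).toLinearMap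
    Subtype.val_injective

theorem lfp_of_isLocallyNoetherian {X Y : Scheme.{u}} (f : X ⟶ Y)
    [IsLocallyNoetherian Y] [LocallyOfFiniteType f] : LocallyOfFinitePresentation f where
  finitePresentation_appLE {U} hU {V} hV e := by
    have : IsNoetherianRing Γ(Y, U) := IsLocallyNoetherian.component_noetherian ⟨U, hU⟩
    exact RingHom.FinitePresentation.of_finiteType.1 (f.finiteType_appLE hU hV e)

theorem apply_fiberι {X Y : Scheme.{u}} (f : X ⟶ Y) (y : Y) (t : f.fiber y) : f (f.fiberι y t) = y := by
  have h : f.fiberι y t ∈ Set.range (f.fiberι y) := ⟨t, rfl⟩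
  rw [Scheme.Hom.range_fiberι] at h
  exact h

/-- The fibre of an immersed subscheme. -/
theorem dim_closed_fiber {X Y W : Scheme.{u}} (f : X ⟶ Y) (i : W ⟶ X)
    [IsPreimmersion i] (y : Y) :
    topologicalKrullDim ↥(f ⁻¹' {y} ∩ Set.range i) = topologicalKrullDim ↥((i ≫ f).fiber y) := by
  let j : ↥((i ≫ f).fiber y) → X := fun t => i ((i ≫ f).fiberι y t)
  have hj : IsEmbedding j := (i.isEmbedding).comp ((i ≫ f).fiberι y).isEmbedding
  have hr : Set.range j = f ⁻¹' {y} ∩ Set.range i := by
    ext x
    constructor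
    · rintro ⟨t, rfl⟩
      exact ⟨apply_fiberι (i ≫ f) y t, ⟨_, rfl⟩⟩
    · rintro ⟨hx, w, rfl⟩
      have h1 : w ∈ Set.range ((i ≫ f).fiberι y) := by
        rw [Scheme.Hom.range_fiberι]
        exact hx
      obtain ⟨t, ht⟩ := h1
      exact ⟨t, congrArg i ht⟩
  rw [← hr]
  exact (IsHomeomorph.topologicalKrullDim_eq _ hj.toHomeomorph.isHomeomorph).symm

theorem dim_mono {X : Type*} [TopologicalSpace X] {A B : Set X} (h : A ⊆ B) :
    topologicalKrullDim ↥A ≤ topologicalKrullDim ↥B :=
  (IsEmbedding.inclusion h).isInducing.topologicalKrullDim_le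

theorem dim_immersion_le {X Y W : Scheme.{u}} (f : X ⟶ Y) (i : W ⟶ X) [IsPreimmersion i] (y : Y) :
    topologicalKrullDim ((i ≫ f).fiber y) ≤ topologicalKrullDim (f.fiber y) := by
  rw [← dim_closed_fiber f i y, FlatA.FibreDim.topologicalKrullDim_fiber_eq]
  exact dim_mono Set.inter_subset_left

theorem dim_immersion_le_of_range {X Y W W' : Scheme.{u}} (f : X ⟶ Y) (i : W ⟶ X) (i' : W' ⟶ X) [IsPreimmersion i]
    [IsPreimmersion i'] (h : Set.range i ⊆ Set.range i') (y : Y) :
    topologicalKrullDim ((i ≫ f).fiber y) ≤ topologicalKrullDim ((i' ≫ f).fiber y) := by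
  rw [← dim_closed_fiber f i y, ← dim_closed_fiber f i' y]
  exact dim_mono (Set.inter_subset_inter_right _ h)

/-- Fibre dimensions do not increase along integral morphisms. -/
theorem dim_integral_le {X Y W : Scheme.{u}} (f : X ⟶ Y) (ν : W ⟶ X) [IsIntegralHom ν] (y : Y) :
    topologicalKrullDim ((ν ≫ f).fiber y) ≤ topologicalKrullDim (f.fiber y) := by
  let T := Y.fromSpecResidueField y
  let m : pullback (ν ≫ f) T ⟶ pullback f T := pullback.lift (pullback.fst _ _ ≫ ν) (pullback.snd _ _)
    (by rw [Category.assoc, pullback.condition])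
  have h1 : IsPullback m (pullback.fst (ν ≫ f) T) (pullback.fst f T) ν := by
    refine IsPullback.of_right (h₁₂ := pullback.snd f T) (v₁₃ := T) (h₂₂ := f) ?_ (pullback.lift_fst _ _ _)
      (IsPullback.of_hasPullback f T).flip
    rw [show m ≫ pullback.snd f T = pullback.snd (ν ≫ f) T from pullback.lift_snd _ _ _]
    exact (IsPullback.of_hasPullback (ν ≫ f) T).flip
  have hm : IsIntegralHom m := MorphismProperty.of_isPullback (P := @IsIntegralHom) h1.flip inferInstance
  exact @Flat2G.ProperDim.topologicalKrullDim_le_of_isIntegralHom _ _ m hm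

/-- The dimension of the generic fibre is the local fibre dimension at the generic point. -/
theorem dim_generic_fiber_le_fibreDimAt {X T : Scheme.{u}} [IsIntegral X] [IsIntegral T] (F : X ⟶ T)
    [LocallyOfFiniteType F] [IsDominant F] :
    topologicalKrullDim (F.fiber (genericPoint T)) ≤ FlatMor.fibreDimAt F (genericPoint X) := by
  have h1 := Ega4fib.H112.FibreFormula.fibreDimAt_eq_add_toNat F (genericPoint X)
  have h2 := Ega4fib.H112.FibreFormula.topologicalKrullDim_fiber_genericPoint F
    (Cardinal.toNat (CycB.RelDim.rtd F (genericPoint X)))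
    (Cardinal.cast_toNat_of_lt_aleph0 (CycB.RelDim.rtd_lt_aleph0 F (genericPoint X))).symm
  rw [h2, h1]
  refine le_add_of_nonneg_left ?_
  exact ringKrullDim_nonneg_of_nontrivial

/-- The generic fibre of a modification of a scheme with local fibre dimensions `≤ n`. -/
theorem dim_generic_fiber_le {X Y T : Scheme.{u}} [IsIntegral Y] [IsIntegral T] {f : X ⟶ Y} (hf : IsModif f)
    (g : Y ⟶ T) [LocallyOfFiniteType g] [IsDominant g] (n : WithBot ℕ∞) (hg : ∀ y : Y, FlatMor.fibreDimAt g y ≤ n) :
    topologicalKrullDim ((f ≫ g).fiber (genericPoint T)) ≤ n := by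
  have := hf.proper
  have := hf.integral
  have := hf.surjective
  obtain ⟨U, hU, hfU⟩ := hf.exists_isIso
  refine (dim_generic_fiber_le_fibreDimAt (f ≫ g)).trans ?_
  have hξ : genericPoint X ∈ f ⁻¹ᵁ U :=
    ((genericPoint_spec X).mem_open_set_iff (f ⁻¹ᵁ U).isOpen).mpr (by simpa using nonempty_preimage f U hU)
  have h1 := Sga7.H752.GenDim.fibreDimAt_comp (f ⁻¹ᵁ U).ι (f ≫ g) ⟨genericPoint X, hξ⟩
  have h2 := Sga7.H752.GenDim.fibreDimAt_comp ((f ∣_ U) ≫ U.ι) g ⟨genericPoint X, hξ⟩
  have h3 : (f ⁻¹ᵁ U).ι ≫ f ≫ g = ((f ∣_ U) ≫ U.ι) ≫ g := by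
    rw [← Category.assoc, ← morphismRestrict_ι]
  rw [h3, h2] at h1
  exact h1.symm.le.trans (hg _)

theorem isMaxPt_iff {T : Scheme.{u}} [IsIntegral T] (y : T) : K835.GenFlat.IsMaxPt y ↔ y = genericPoint T := by
  constructor
  · intro h
    exact (h _ (genericPoint_specializes y)).symm
  · rintro rfl y' hy'
    exact (hy'.antisymm (genericPoint_specializes y')).eq

/-- Flattening: the main component has small fibres. -/
theorem exists_flattening {X T : Scheme.{u}} [IsIntegral T] [CompactSpace T] [QuasiSeparatedSpace T]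
    (F : X ⟶ T) [LocallyOfFinitePresentation F] [QuasiCompact F] [QuasiSeparated F] (n : WithBot ℕ∞)
    (hdim : topologicalKrullDim (F.fiber (genericPoint T)) ≤ n) :
    ∃ (T' : Scheme.{u}) (b : T' ⟶ T) (Z : Scheme.{u}) (i : Z ⟶ pullback F b), IsModif b ∧ IsClosedImmersion i ∧
      (∀ t : T', topologicalKrullDim ((i ≫ pullback.snd F b).fiber t) ≤ n) ∧
      ∀ z : (pullback F b : Scheme.{u}), b (pullback.snd F b z) = genericPoint T → z ∈ Set.range i := by
  have hgen : IsCompact {y : T | K835.GenFlat.IsMaxPt y} := by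
    have h1 : {y : T | K835.GenFlat.IsMaxPt y} = {genericPoint T} := by
      ext y
      exact isMaxPt_iff y
    rw [h1]
    exact isCompact_singleton
  obtain ⟨U, 𝓘, T', b, hU, hUd, hUc, hb, hadm, hbs, hbp, H⟩ := K835.Flatten.exists_blowUp hgen F
  have hηU : genericPoint T ∈ U := hU _ ((isMaxPt_iff _).2 rfl)
  have hUc' : ∀ y ∈ U, y ∈ Flat2C.StrictTr.compl 𝓘 := fun y hy hy' =>
    Set.disjoint_left.mp hadm.2 hy' hy
  have hI : 𝓘 ≠ ⊥ := by
    rintro rfl
    have h1 : genericPoint T ∉ (⊥ : T.IdealSheafData).support := hUc' _ hηU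
    rw [Scheme.IdealSheafData.support_bot] at h1
    exact h1 trivial
  have hbm : IsModif b := IsModif.of_isBlowUp hI hadm.1 hb
  have := hbm.integral
  let E := (𝓘.comap F).comap (pullback.fst F b)
  have hft : BlowUp.IsFiniteTypeIdeal E :=
    Flat2C.StrictTr.isFiniteTypeIdeal_comap (Flat2C.StrictTr.isFiniteTypeIdeal_comap hadm.1 F) _
  let J := Flat2C.StrictTr.killedIdeal E
  obtain ⟨h1, h2, h3, h4⟩ := H _ (pullback.fst F b) (pullback.snd F b) (IsPullback.of_hasPullback F b) J
    (Flat2C.StrictTr.isKilledIdeal_killedIdeal hft)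
  have hc : ((Flat2C.StrictTr.compl E : (pullback F b : Scheme.{u}).Opens) : Set (pullback F b : Scheme.{u})) =
      pullback.snd F b ⁻¹' ((b ⁻¹ᵁ Flat2C.StrictTr.compl 𝓘 : T'.Opens) : Set T') := by
    change ((Flat2C.StrictTr.compl ((𝓘.comap F).comap (pullback.fst F b)) : (pullback F b : Scheme.{u}).Opens) :
      Set (pullback F b : Scheme.{u})) = _
    rw [← Scheme.IdealSheafData.comap_comp, pullback.condition, Scheme.IdealSheafData.comap_comp,
      Flat2C.StrictTr.compl_comap, Flat2C.StrictTr.compl_comap]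
    rfl
  have hr : Set.range J.subschemeι = closure (Flat2C.StrictTr.compl E : Set (pullback F b : Scheme.{u})) := by
    rw [Scheme.IdealSheafData.range_subschemeι, Flat2C.StrictTr.coe_support_killedIdeal hft]
  refine ⟨T', b, J.subscheme, J.subschemeι, hbm, inferInstance, ?_, ?_⟩
  · intro t
    by_contra hlt
    rw [not_le] at hlt
    have hopen := S0404.result (J.subschemeι ≫ pullback.snd F b) n
    have hη : genericPoint T' ∈ {s : T' | n < topologicalKrullDim ((J.subschemeι ≫ pullback.snd F b).fiber s)} :=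
      ((genericPoint_spec T').mem_open_set_iff hopen).mpr (by simpa using ⟨t, hlt⟩)
    have hη' : n < topologicalKrullDim ((J.subschemeι ≫ pullback.snd F b).fiber (genericPoint T')) := hη
    refine absurd hη' (not_lt.2 ?_)
    refine (dim_immersion_le (pullback.snd F b) J.subschemeι (genericPoint T')).trans ?_
    rw [Flat2G.ProperDim.topologicalKrullDim_fiber_baseChange F (pullback.snd F b) (pullback.fst F b) b
      (IsPullback.of_hasPullback F b) (genericPoint T'), map_genericPoint hbm]
    exact hdim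
  · intro z hz
    rw [hr]
    refine subset_closure ?_
    rw [hc]
    change b (pullback.snd F b z) ∈ Flat2C.StrictTr.compl 𝓘
    rw [hz]
    exact hUc' _ hηU

/-- The step of the construction of acyclic normal models. -/
theorem exists_step (k : Type u) [Field k] {T Y X : Scheme.{u}} (a : T ⟶ Spec (CommRingCat.of k))
    [LocallyOfFiniteType a] [CompactSpace T] [QuasiSeparatedSpace T] [IsIntegral T] (g : Y ⟶ T)
    [SmoothOfRelativeDimension 1 g] [QuasiCompact g] [QuasiSeparated g] [IsIntegral Y] {f : X ⟶ Y} (hf : IsModif f)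
    (P : ∀ {T'' : Scheme.{u}}, (T'' ⟶ T) → Prop)
    (IH : ∀ (T' : Scheme.{u}) (b : T' ⟶ T), IsModif b →
      ∃ (T'' : Scheme.{u}) (h : T'' ⟶ T'), IsModif h ∧ Pi1.IsNormalScheme T'' ∧ P (h ≫ b)) :
    ∃ (T'' : Scheme.{u}) (c : T'' ⟶ T), IsModif c ∧ Pi1.IsNormalScheme T'' ∧ P c ∧
      ∃ (X' : Scheme.{u}) (r : X' ⟶ X) (q : X' ⟶ pullback g c), IsModif r ∧ IsModif q ∧ Pi1.IsNormalScheme X' ∧
        ∀ t : T'', topologicalKrullDim ((q ≫ pullback.snd g c).fiber t) ≤ 1 := by
  have := hf.proper
  have := hf.integral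
  have := hf.surjective
  have hk : K375.NagSch.IsNag (Spec (CommRingCat.of k)) :=
    K375.NagSch.isNag_Spec (A := CommRingCat.of k) (isNagata_field k)
  have hTn := K375.NagSch.isNag_of_locallyOfFiniteType a hk
  have : IsLocallyNoetherian T := hTn.isLocallyNoetherian
  have hsm : Smooth g := SmoothOfRelativeDimension.smooth 1 g
  have hgdom : IsDominant g := by
    refine ⟨?_⟩
    have h1 : IsOpen (Set.range g) := g.isOpenMap.isOpen_range
    exact h1.dense (Set.range_nonempty g)
  let F := f ≫ g
  have : LocallyOfFinitePresentation F := lfp_of_isLocallyNoetherian F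
  have hdim : topologicalKrullDim (F.fiber (genericPoint T)) ≤ 1 :=
    dim_generic_fiber_le hf g 1 fun y => (S2768.result 1 g y).le
  obtain ⟨T', b, Z, i, hb, hi, hZ1, hZ2⟩ := exists_flattening F 1 hdim
  obtain ⟨T'', h, hh, hn, hP⟩ := IH T' b hb
  let c := h ≫ b
  have hc : IsModif c := hh.comp hb
  have := hc.integral
  have := hc.proper
  let V := pullback g c
  let π₁ : V ⟶ Y := pullback.fst g c
  let π₂ : V ⟶ T'' := pullback.snd g c
  have hpb : IsPullback π₁ π₂ g c := IsPullback.of_hasPullback g c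
  have hπ₁ : IsModif π₁ := isModif_of_isPullback hpb hc hn
  have := hπ₁.integral
  have := hπ₁.proper
  obtain ⟨X₃, j, hj, hX₃⟩ := exists_dominating_closed hf hπ₁
  have := hX₃.integral
  have hX₃' : IsModif (j ≫ pullback.fst f π₁) :=
    isModif_of_comp (g := f) (by rw [Category.assoc]; exact hX₃) hf
  have hX₃'' : IsModif (j ≫ pullback.snd f π₁) := by
    refine isModif_of_comp (g := π₁) ?_ hπ₁
    rw [Category.assoc, ← pullback.condition]
    exact hX₃
  -- fibre dimensions of `X₃` over `T''`
  have hbig : IsPullback (pullback.fst f π₁) (pullback.snd f π₁ ≫ π₂) F c :=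
    (IsPullback.of_hasPullback f π₁).paste_vert hpb
  let μ : pullback f π₁ ⟶ pullback F b := pullback.lift (pullback.fst f π₁) ((pullback.snd f π₁ ≫ π₂) ≫ h)
    (by rw [hbig.w, Category.assoc, Category.assoc, Category.assoc])
  have hμ : IsPullback μ (pullback.snd f π₁ ≫ π₂) (pullback.snd F b) h := by
    refine IsPullback.of_right (h₁₂ := pullback.fst F b) (v₁₃ := F) (h₂₂ := b) ?_ (pullback.lift_snd _ _ _)
      (IsPullback.of_hasPullback F b)
    rw [show μ ≫ pullback.fst F b = pullback.fst f π₁ from pullback.lift_fst _ _ _]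
    exact hbig
  have hZ₂ : IsPullback (pullback.snd μ i) (pullback.fst μ i ≫ pullback.snd f π₁ ≫ π₂) (i ≫ pullback.snd F b) h :=
    (IsPullback.of_hasPullback μ i).flip.paste_vert hμ
  have hrange : Set.range j ⊆ Set.range (pullback.fst μ i) := by
    have h1 : Set.range (pullback.fst μ i) = μ ⁻¹' Set.range i := Scheme.Pullback.range_fst μ i
    rw [h1]
    rintro _ ⟨x, rfl⟩
    have hcl : IsClosed (μ ⁻¹' Set.range i) := i.isClosedEmbedding.isClosed_range.preimage μ.continuous
    have hgen : j (genericPoint X₃) ∈ μ ⁻¹' Set.range i := by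
      apply hZ2
      have e1 : (j ≫ μ ≫ pullback.snd F b ≫ b) = (j ≫ pullback.fst f π₁ ≫ f) ≫ g := by
        rw [← pullback.condition, ← Category.assoc μ,
          show μ ≫ pullback.fst F b = pullback.fst f π₁ from pullback.lift_fst _ _ _]
        simp [F]
      have e2 : b (pullback.snd F b (μ (j (genericPoint X₃)))) = (j ≫ μ ≫ pullback.snd F b ≫ b) (genericPoint X₃) := by
        simp only [Scheme.Hom.comp_apply]
      rw [e2, e1, Scheme.Hom.comp_apply, map_genericPoint hX₃]
      exact Ega4fib.H112.FibreFormula.map_genericPoint g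
    exact (hcl.stableUnderSpecialization ((genericPoint_specializes x).map j.continuous)) hgen
  have hX₃dim : ∀ t : T'', topologicalKrullDim ((j ≫ pullback.snd f π₁ ≫ π₂).fiber t) ≤ 1 := by
    intro t
    refine (dim_immersion_le_of_range (pullback.snd f π₁ ≫ π₂) j (pullback.fst μ i) hrange t).trans ?_
    rw [Flat2G.ProperDim.topologicalKrullDim_fiber_baseChange _ _ _ h hZ₂ t]
    exact hZ1 _
  -- normalization
  have hN : K375.NagSch.IsNag X₃ :=
    K375.NagSch.isNag_of_locallyOfFiniteType ((j ≫ pullback.fst f π₁) ≫ F)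
      hTn
  have : CompactSpace Y := QuasiCompact.compactSpace_of_compactSpace g
  have : QuasiSeparatedSpace Y := quasiSeparatedSpace_of_quasiSeparated g
  have : QuasiSeparatedSpace X₃ := quasiSeparatedSpace_of_quasiSeparated (j ≫ pullback.fst f π₁ ≫ f)
  have i1 : QuasiCompact (X₃.fromSpecStalk (genericPoint X₃)) := inferInstance
  have i2 : QuasiSeparated (X₃.fromSpecStalk (genericPoint X₃)) := inferInstance
  have hν := Resolve.K375.NagNorm.isModif_normalizationι X₃ hN
  have hνf := K375.NagSch.isFinite_normalizationι X₃ hN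
  obtain ⟨-, hnorm, -, -⟩ := S2351.result X₃
  refine ⟨T'', c, hc, hn, hP, Curv2.normalization X₃, Curv2.normalizationι X₃ ≫ j ≫ pullback.fst f π₁,
    Curv2.normalizationι X₃ ≫ j ≫ pullback.snd f π₁, hν.comp hX₃', hν.comp hX₃'', hnorm, fun t => ?_⟩
  have e3 : (Curv2.normalizationι X₃ ≫ j ≫ pullback.snd f π₁) ≫ pullback.snd g c =
      Curv2.normalizationι X₃ ≫ (j ≫ pullback.snd f π₁ ≫ π₂) := by
    simp only [Category.assoc]
    rfl
  rw [e3]
  exact (dim_integral_le _ _ t).trans (hX₃dim t)

end K97.Models
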