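import Groth.Agent.RatRes.K97.PushPull
import Groth.Agent.RatRes.K97.DimTools
import Groth.Agent.S3614
import Groth.Agent.Dual3.K477.SmoothSep
import Groth.Agent.S3655
import Groth.Agent.S0384
import Groth.Prelude.Def_Canon

/-!
# Dualizing complexes and proper birational morphisms (separated schemes of finite type over a field)

* `nonempty_rpush_shriekC`: `Rπ_* D_Y = D_X` for `Rπ_* O_Y = O_X`;
* `rpush_topDiff_isZero`: `R^p π_* ω_Y = 0` for `p > 0`, `Y` smooth and `X` Cohen–Macaulay with `Rπ_* O_Y = O_X`.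
-/

set_option autoImplicit false
universe u
open CategoryTheory CategoryTheory.Limits AlgebraicGeometry
attribute [local instance] HasDerivedCategory.standard

namespace K97.NonProper

open Groth.Agent K97.DimTools K97.PushPull
open Groth.Agent.Dual.H310.OpenBC Groth.Agent.Dual.H360.ProjAff

variable {Y X S : Scheme.{u}}

instance isSepFT_id (S : Scheme.{u}) : Dual3.IsSepFT (𝟙 S) := ⟨inferInstance, inferInstance, inferInstance⟩

/-- The trivial compactification of a proper morphism. -/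
def triv (π : Y ⟶ X) [IsProper π] : DEt.Compactification π :=
  ⟨Y, 𝟙 Y, π, inferInstance, inferInstance, Category.id_comp π⟩

/-- `Rπ_* π^! = id` if `Rπ_* O_Y = O_X`. -/
theorem nonempty_rightAdj_rpush (π : Y ⟶ X) [QuasiCompact π] [QuasiSeparated π] [DCoh.HasRpush π]
    (hO : Nonempty ((DCoh.Rpush π).obj (DCoh.inD Y (Coh.structureModule Y)) ≅ DCoh.inD X (Coh.structureModule X)))
    (hπ : DCoh.RpushPreservesQCoh π) {c : DCoh.DQCoh X ⥤ DCoh.DQCoh Y} (adj : DCoh.RpushQ π hπ ⊣ c) :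
    Nonempty (c ⋙ DCoh.RpushQ π hπ ≅ 𝟭 (DCoh.DQCoh X)) := by
  have hlπ : DCoh.HasLpull π := PerfC.PullKFlat.hasLpull π
  have hL : Dual3.LpullPreservesQCoh π := lpullPreserves π
  obtain ⟨e⟩ := nonempty_lpullQ_rpushQ π hO hL hπ
  exact ⟨(((pullPushQAdj π hL hπ).comp adj).ofNatIsoLeft e).rightAdjointUniq Adjunction.id⟩

section

variable [IsNoetherian S] (aX : X ⟶ S) (aY : Y ⟶ S) [Dual3.IsSepFT aX] [Dual3.IsSepFT aY]
  (π : Y ⟶ X) [IsProper π] (w : π ≫ aX = aY) [DCoh.HasRpush π]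
  (hO : Nonempty ((DCoh.Rpush π).obj (DCoh.inD Y (Coh.structureModule Y)) ≅ DCoh.inD X (Coh.structureModule X)))
  [∀ (U V : Scheme.{u}) (j : U ⟶ V) [IsOpenImmersion j], PreservesFiniteLimits (Scheme.Modules.restrictFunctor j)]

include w hO

/-- `Rπ_* D_Y = D_X`. -/
theorem nonempty_rpush_shriekC (cX : DEt.Compactification aX) (cY : DEt.Compactification aY)
    [DCoh.HasRpush cX.fbar] [DCoh.HasRpush cY.fbar]
    (hX : DCoh.RpushPreservesQCoh cX.fbar) (hY : DCoh.RpushPreservesQCoh cY.fbar)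
    (a : DCoh.DQCoh S ⥤ DCoh.DQCoh cX.Xbar) (b : DCoh.DQCoh S ⥤ DCoh.DQCoh cY.Xbar)
    (adja : DCoh.RpushQ cX.fbar hX ⊣ a) (adjb : DCoh.RpushQ cY.fbar hY ⊣ b)
    (K : DCoh.DQCoh S) (hK : Dual3.IsBddBelowQ S K) :
    Nonempty ((DCoh.Rpush π).obj ((Dual3.shriekC cY b).obj K) ≅ (Dual3.shriekC cX a).obj K) := by
  subst w
  have hXn : IsNoetherian X := isNoetherian_of_finiteType aX
  have hYn : IsNoetherian Y := isNoetherian_of_finiteType (π ≫ aX)
  have hπQ : DCoh.RpushPreservesQCoh π := preservesQCoh π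
  have hres : ∀ K : DCoh.D cX.Xbar, DCoh.IsQCohD K → DCoh.IsQCohD ((DCoh.restrictD cX.j).obj K) := fun K hK =>
    PerfA.QCohD.isQCohD_restrictD cX.j hK
  have hl : (DCoh.RpushQ π hπQ).IsLeftAdjoint := isLeftAdjoint_rpushQ π hπQ
  let c := (DCoh.RpushQ π hπQ).rightAdjoint
  let adjc : DCoh.RpushQ π hπQ ⊣ c := Adjunction.ofIsLeftAdjoint _
  have : DCoh.HasRpush (triv π).fbar := ‹DCoh.HasRpush π›
  obtain ⟨θ⟩ := S3655.result S Y X S (π ≫ aX) aX (𝟙 S) π aX rfl (Category.comp_id aX) (triv π) cX cY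
    hπQ hX hY c a b adjc adja adjb hres
  let D : DCoh.DQCoh X := ⟨(Dual3.shriekC cX a).obj K, hres _ (a.obj K).property⟩
  have e1 : (Dual3.shriekC cY b).obj K ≅ (DCoh.restrictD (𝟙 Y)).obj (c.obj D).obj := θ.app ⟨K, hK⟩
  have e2 : (DCoh.restrictD (𝟙 Y)).obj (c.obj D).obj ≅ (c.obj D).obj :=
    (LoccohB.AdStruct.restrictDId Y).app (c.obj D).obj
  obtain ⟨e3⟩ := nonempty_rightAdj_rpush π hO hπQ adjc
  exact ⟨(DCoh.Rpush π).mapIso (e1 ≪≫ e2) ≪≫ (ObjectProperty.ι (DCoh.IsQCohD (X := X))).mapIso (e3.app D)⟩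

end

section Field

variable {k : Type u} [Field k]

/-- `R^p π_* ω_Y = 0` for `p > 0`, `Y` smooth, `X` Cohen–Macaulay, `Rπ_* O_Y = O_X`. -/
theorem rpush_topDiff_isZero (d : ℕ) (aX : X ⟶ Spec (CommRingCat.of k)) (aY : Y ⟶ Spec (CommRingCat.of k))
    [Dual3.IsSepFT aX] [Dual3.IsSepFT aY] [SmoothOfRelativeDimension d aY] [IsIntegral Y] [IsIntegral X]
    (hCM : ∀ x : X, LocCoh.IsCohenMacaulayLocalRing (X.presheaf.stalk x))
    (π : Y ⟶ X) (hπ : π ≫ aX = aY) [IsProper π]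
    (hbir : ∃ U : X.Opens, (U : Set X).Nonempty ∧ IsIso (π ∣_ U))
    [HasInjectiveResolutions Y.Modules] (h0 : IsIso (ClSub.unitToPush π))
    (hp : ∀ p : ℕ, 0 < p → IsZero ((Coh.Rpush π p).obj (Coh.structureModule Y)))
    (ωY : Y.Modules)
    (hωY : Canon.IsTopDiff aY d ωY)
    (p : ℕ) (hp0 : 0 < p) : IsZero ((Coh.Rpush π p).obj ωY) := by
  have hdX : topologicalKrullDim X = d := by
    rw [← dim_eq_of_birational aX π hbir, dim_of_smooth aY d]
  obtain ⟨cX⟩ : Nonempty (DEt.Compactification aX) := by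
    obtain ⟨P, j, g, h1, -, h3, h4⟩ := S0384.result aX
    exact ⟨⟨P, j, g, h1, h3, h4⟩⟩
  obtain ⟨cY⟩ : Nonempty (DEt.Compactification aY) := by
    obtain ⟨P, j, g, h1, -, h3, h4⟩ := S0384.result aY
    exact ⟨⟨P, j, g, h1, h3, h4⟩⟩
  have hcX : IsNoetherian cX.Xbar := isNoetherian_of_finiteType cX.fbar
  have hcY : IsNoetherian cY.Xbar := isNoetherian_of_finiteType cY.fbar
  have hYn : IsNoetherian Y := isNoetherian_of_finiteType aY
  have hrX : DCoh.HasRpush cX.fbar := PerfA.ExtPush.hasRpush _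
  have hrY : DCoh.HasRpush cY.fbar := PerfA.ExtPush.hasRpush _
  have hrπ : DCoh.HasRpush π := PerfA.ExtPush.hasRpush π
  have hX := preservesQCoh cX.fbar
  have hY := preservesQCoh cY.fbar
  have hlX : (DCoh.RpushQ cX.fbar hX).IsLeftAdjoint := isLeftAdjoint_rpushQ _ hX
  have hlY : (DCoh.RpushQ cY.fbar hY).IsLeftAdjoint := isLeftAdjoint_rpushQ _ hY
  let a := (DCoh.RpushQ cX.fbar hX).rightAdjoint
  let adja : DCoh.RpushQ cX.fbar hX ⊣ a := Adjunction.ofIsLeftAdjoint _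
  let b := (DCoh.RpushQ cY.fbar hY).rightAdjoint
  let adjb : DCoh.RpushQ cY.fbar hY ⊣ b := Adjunction.ofIsLeftAdjoint _
  let O : DCoh.DQCoh (Spec (CommRingCat.of k)) :=
    ⟨DCoh.inD _ (Coh.structureModule _), PerfA.QCohD.isQCohD_inD _ (Fdesc.StructMod.isQCoh_structureModule _)⟩
  have hOb : Dual3.IsBddBelowQ _ O := ⟨0, inferInstanceAs (DerivedCategory.IsGE (DCoh.inD _ _) 0)⟩
  obtain ⟨e1⟩ := nonempty_rpush_shriekC aX aY π hπ (nonempty_rpush_unit π h0 hp) cX cY hX hY a b adja adjb O hOb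
  obtain ⟨e2⟩ := K477.SmoothSep.main d aY cY.j cY.fbar cY.fac O.property ⟨Iso.refl _⟩
    (Ega1.ADualUniv.univ_of_adj (h := hY) adjb O) ωY hωY
  have h3 := (S3614.result (Spec (CommRingCat.of k)) X (Spec (CommRingCat.of k)) aX (𝟙 _) aX (Category.comp_id aX)
    (isCMAt_of_stalk aX hCM) d (dim_fiber_irreducibleComponents aX d hdX) cX hX a adja O ⟨Iso.refl _⟩).1
  exact Single.rpush_isZero π _ ωY d (e2 ≪≫ Single.shiftIso d ωY) _ e1 h3 p hp0

end Field

end K97.NonProper
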