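import Groth.Agent.RatRes.K97.TameKill

/-!
# The vanishing theorem for tame quotients over any field

* `compare_tame`: the comparison `Inj`, `Surj` for tame quotients.
* `opart`: `R^p π_* O_X = 0` for `p > 0` and `O_Y = π_* O_X` for proper birational morphisms of tame quotients.
-/

set_option autoImplicit false
universe u
open CategoryTheory CategoryTheory.Limits AlgebraicGeometry TopologicalSpace Opposite

namespace K97.OPart

open Groth.Agent Groth.Agent.CurvesC.Modif K74.SC K74.Compare K97.TameKill

theorem residueDegree_of_isOpenImmersion {X Y : Scheme.{u}} (i : X ⟶ Y) [IsOpenImmersion i] (x : X) :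
    i.residueDegree x = 1 := by
  let _ := (i.residueFieldMap x).hom.toAlgebra
  have hb : Function.Bijective (algebraMap (Y.residueField (i x)) (X.residueField x)) :=
    ConcreteCategory.bijective_of_isIso (i.residueFieldMap x)
  change Module.finrank (Y.residueField (i x)) (X.residueField x) = 1
  rw [← Module.finrank_self (Y.residueField (i x))]
  exact (LinearEquiv.ofBijective (Algebra.linearMap (Y.residueField (i x)) (X.residueField x)) hb).finrank_eq.symm

/-- The degree of a restriction. -/
theorem residueDegree_restrict {X' X : Scheme.{u}} [IsIntegral X'] (f : X' ⟶ X) (A : X.Opens)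
    [Nonempty (f ⁻¹ᵁ A).toScheme] :
    (f ∣_ A).residueDegree (genericPoint (f ⁻¹ᵁ A).toScheme) = f.residueDegree (genericPoint X') := by
  have h1 := CycB.Push.residueDegree_comp (f ∣_ A) A.ι (genericPoint (f ⁻¹ᵁ A).toScheme)
  have h2 := CycB.Push.residueDegree_comp (f ⁻¹ᵁ A).ι f (genericPoint (f ⁻¹ᵁ A).toScheme)
  rw [residueDegree_of_isOpenImmersion A.ι, one_mul] at h1
  rw [residueDegree_of_isOpenImmersion (f ⁻¹ᵁ A).ι, mul_one, genericPoint_eq_of_isOpenImmersion (f ⁻¹ᵁ A).ι] at h2
  rw [← h1, ← h2]
  simp only [morphismRestrict_ι]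

variable (k : Type u) [Field k]

/-- The comparison for tame quotients. -/
theorem compare_tame {X : Scheme.{u}} [IsIntegral X] (hX : Pi1.IsNormalScheme X) (a : X ⟶ Spec (CommRingCat.of k))
    [IsSeparated a] [QuasiCompact a] [LocallyOfFiniteType a] (ht : Rows.IsTame a) (q : ℕ) (U : X.Opens)
    (hU : IsCompact (U : Set X)) : Inj X q U ∧ Surj X q U := by
  obtain ⟨X', hX'i, f', hs, hf, hsu, hd⟩ := ht
  have hsep : X.IsSeparated := by
    constructor
    have h : IsSeparated (a ≫ terminal.from _) := inferInstance
    rwa [show a ≫ terminal.from _ = terminal.from X from Subsingleton.elim _ _] at h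
  have hc : CompactSpace X := QuasiCompact.compactSpace_of_compactSpace a
  refine compare_of_isCompact hX {A | IsAffineOpen A} X.isBasis_affineOpens (fun A hA B hB => ?_) (fun A hA => hA)
    ?_ q U hU
  · have hA' : IsAffineOpen A := hA
    have hB' : IsAffineOpen B := hB
    exact hA'.inf hB'
  · intro A hA hne
    have h1 : IsAffine A.toScheme := hA
    have h2 : Nonempty A.toScheme := hne.to_subtype
    have hne' : Nonempty (f' ⁻¹ᵁ A).toScheme := by
      obtain ⟨x, hx⟩ := hne
      obtain ⟨y, rfl⟩ := f'.surjective x
      exact ⟨⟨y, hx⟩⟩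
    have hs' : Smooth ((f' ∣_ A) ≫ A.ι ≫ a) := by
      rw [← Category.assoc, morphismRestrict_ι, Category.assoc]
      infer_instance
    have hsr : Surjective (f' ∣_ A) := IsZariskiLocalAtTarget.restrict (P := @Surjective) hsu A
    intro n Z p hp
    exact kill_of_tame k (A.ι ≫ a) (f' ∣_ A) hs' (by rw [residueDegree_restrict f' A]; exact hd) n p hp

/-- The vanishing theorem for tame quotients over any field. -/
theorem opart : Rows.OPart k := by
  intro X Y aX aY _ _ _ _ _ _ _ _ hX hY tX tY π hπ _ hbir _
  have hm : IsModif π := ⟨inferInstance, inferInstance, hbir⟩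
  exact ⟨fun p hp => K74.Main.isZero_Rpush (fun q U hU => (compare_tame k hX aX tX q U hU).1)
    (fun q U hU => (compare_tame k hY aY tY q U hU).2) π hm p hp, K74.Main.isIso_unitToPush hY π hm⟩

end K97.OPart
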