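import Groth.Agent.Dual.H360.ProjAff
import Groth.Agent.Dual.H310.OpenBC
import Groth.Agent.RatRes.K97.Single
import Groth.Prelude.Def_ClSub2

/-!
# `Rπ_* O_Y = O_X` implies `Rπ_* (b^! K) = a^! K`

* `nonempty_rpush_unit`: `Rπ_*(O_Y[0]) ≅ O_X[0]` from `O_X = π_* O_Y` and `R^p π_* O_Y = 0` for `p > 0`;
* `nonempty_lpull_rpush`: `Rπ_* Lπ^* = id` on `D_QCoh(O_X)` if `Rπ_* O_Y = O_X`;
* `nonempty_shriek_rpush`: for `b = π ≫ a` and right adjoints `a'`, `b'` of `Ra_*`, `Rb_*`: `Rπ_* b' ≅ a'`.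
-/

set_option autoImplicit false
universe u
open CategoryTheory CategoryTheory.Limits AlgebraicGeometry
attribute [local instance] HasDerivedCategory.standard

namespace K97.PushPull

open Groth.Agent Groth.Agent.PerfC.LpullTens Groth.Agent.PerfC.DTens Groth.Agent.Dcoh.DerSch
open Groth.Agent.Dual.H310.OpenBC Groth.Agent.Dual.H360.ProjAff

variable {Y X S : Scheme.{u}}

/-- `Rπ_*(O_Y[0]) ≅ O_X[0]`. -/
theorem nonempty_rpush_unit (π : Y ⟶ X) [DCoh.HasRpush π] [HasInjectiveResolutions Y.Modules]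
    (h0 : IsIso (ClSub.unitToPush π))
    (hp : ∀ p : ℕ, 0 < p → IsZero ((Coh.Rpush π p).obj (Coh.structureModule Y))) :
    Nonempty ((DCoh.Rpush π).obj (DCoh.inD Y (Coh.structureModule Y)) ≅ DCoh.inD X (Coh.structureModule X)) := by
  have h1 : ∀ i : ℤ, i ≠ 0 →
      IsZero (DCoh.HD ((DCoh.Rpush π).obj (DCoh.inD Y (Coh.structureModule Y))) i) := by
    intro i hi
    rcases lt_or_gt_of_ne hi with h | h
    · exact PerfC.RpushSingle.isZero_of_neg π _ i h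
    · obtain ⟨n, rfl⟩ : ∃ n : ℕ, i = n := ⟨i.toNat, by omega⟩
      exact (hp n (by omega)).of_iso (PerfC.RpushSingle.iso π n _)
  obtain ⟨e⟩ := Single.nonempty_iso_single _ 0 h1
  exact ⟨e ≪≫ (DerivedCategory.singleFunctor X.Modules 0).mapIso
    (PerfC.RpushSingle.iso π 0 (Coh.structureModule Y) ≪≫ Single.rpushZero π _ ≪≫
      (asIso (ClSub.unitToPush π)).symm)⟩

section

variable (π : Y ⟶ X) [QuasiCompact π] [QuasiSeparated π] [DCoh.HasRpush π] [DCoh.HasLpull π]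
  (hO : Nonempty ((DCoh.Rpush π).obj (DCoh.inD Y (Coh.structureModule Y)) ≅ DCoh.inD X (Coh.structureModule X)))

include hO

/-- `Rπ_* Lπ^* = id` on `D_QCoh` if `Rπ_* O_Y = O_X`. -/
theorem nonempty_lpull_rpush :
    Nonempty (ObjectProperty.ι (DCoh.IsQCohD (X := X)) ⋙ DCoh.Lpull π ⋙ DCoh.Rpush π ≅
      ObjectProperty.ι (DCoh.IsQCohD (X := X))) := by
  have : DCoh.HasLTensorCx (unitCx X) := hasLTensorCx _
  obtain ⟨e⟩ := nonempty_pullPush π (unitCx X) ⟨(inDIso _).symm ≪≫ hO.some.symm⟩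
  exact ⟨e ≪≫ Functor.isoWhiskerLeft _ ((leftIso (unitCx X)).symm ≪≫ unitIsoL X)⟩

/-- `Rπ_* Lπ^* = id` as an endofunctor of `D_QCoh`. -/
theorem nonempty_lpullQ_rpushQ (hL : Dual3.LpullPreservesQCoh π) (hπ : DCoh.RpushPreservesQCoh π) :
    Nonempty (Dual3.LpullQ π hL ⋙ DCoh.RpushQ π hπ ≅ 𝟭 (DCoh.DQCoh X)) := by
  obtain ⟨e⟩ := nonempty_lpull_rpush π hO
  exact ⟨NatIso.ofComponents (fun K => ObjectProperty.isoMk _ (e.app K)) (fun φ => by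
    ext1
    exact e.hom.naturality φ)⟩

/-- For `b = π ≫ a` and right adjoints `a'`, `b'` of `Ra_*`, `Rb_*` on `D_QCoh`: `Rπ_* b' ≅ a'`. -/
theorem nonempty_shriek_rpush (a : X ⟶ S) (b : Y ⟶ S) (w : π ≫ a = b)
    [DCoh.HasRpush a] [DCoh.HasRpush b] (hπ : DCoh.RpushPreservesQCoh π) (ha : DCoh.RpushPreservesQCoh a)
    (hb : DCoh.RpushPreservesQCoh b) {a' : DCoh.DQCoh S ⥤ DCoh.DQCoh X} {b' : DCoh.DQCoh S ⥤ DCoh.DQCoh Y}
    (adja : DCoh.RpushQ a ha ⊣ a') (adjb : DCoh.RpushQ b hb ⊣ b') :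
    Nonempty (b' ⋙ DCoh.RpushQ π hπ ≅ a') := by
  have hL : Dual3.LpullPreservesQCoh π := lpullPreserves π
  obtain ⟨e⟩ := nonempty_lpullQ_rpushQ π hO hL hπ
  obtain ⟨θ⟩ := nonempty_rpushQComp π a b w hπ ha hb
  let adj : Dual3.LpullQ π hL ⋙ DCoh.RpushQ b hb ⊣ b' ⋙ DCoh.RpushQ π hπ := (pullPushQAdj π hL hπ).comp adjb
  let i : Dual3.LpullQ π hL ⋙ DCoh.RpushQ b hb ≅ DCoh.RpushQ a ha :=
    Functor.isoWhiskerLeft _ θ.symm ≪≫ (Functor.associator _ _ _).symm ≪≫ Functor.isoWhiskerRight e _ ≪≫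
      Functor.leftUnitor _
  exact ⟨(adj.ofNatIsoLeft i).rightAdjointUniq adja⟩

/-- The same on objects. -/
theorem nonempty_rpush_shriek_obj (a : X ⟶ S) (b : Y ⟶ S) (w : π ≫ a = b)
    [DCoh.HasRpush a] [DCoh.HasRpush b] (hπ : DCoh.RpushPreservesQCoh π) (ha : DCoh.RpushPreservesQCoh a)
    (hb : DCoh.RpushPreservesQCoh b) {a' : DCoh.DQCoh S ⥤ DCoh.DQCoh X} {b' : DCoh.DQCoh S ⥤ DCoh.DQCoh Y}
    (adja : DCoh.RpushQ a ha ⊣ a') (adjb : DCoh.RpushQ b hb ⊣ b') (K : DCoh.DQCoh S) :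
    Nonempty ((DCoh.Rpush π).obj (b'.obj K).obj ≅ (a'.obj K).obj) := by
  obtain ⟨e⟩ := nonempty_shriek_rpush π hO a b w hπ ha hb adja adjb
  exact ⟨(ObjectProperty.ι (DCoh.IsQCohD (X := X))).mapIso (e.app K)⟩

end

end K97.PushPull
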