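import Groth.Agent.RatRes.K97.ProperRows
import Groth.Agent.RatRes.K97.NonProper

/-!
# The rows on Cohen–Macaulay tame quotients, from the vanishing theorem for the structure sheaf

`OPart k`: for a proper birational morphism of tame quotients over `k`, `R^p π_* O_X = 0` for `p > 0` and
`O_Y = π_* O_X`.
-/

set_option autoImplicit false
universe u
open CategoryTheory CategoryTheory.Limits AlgebraicGeometry
attribute [local instance] HasDerivedCategory.standard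

namespace K97.Rows

open Groth.Agent

/-- Tame quotients of smooth schemes. -/
def IsTame {k : Type u} [Field k] {X : Scheme.{u}} (a : X ⟶ Spec (CommRingCat.of k)) : Prop :=
  ∃ (X' : Scheme.{u}) (_ : IsIntegral X') (f' : X' ⟶ X), Smooth (f' ≫ a) ∧ IsFinite f' ∧ Surjective f' ∧
    ((f'.residueDegree (genericPoint X') : ℕ) : k) ≠ 0

/-- Smooth schemes are tame quotients. -/
theorem isTame_of_smooth {k : Type u} [Field k] {X : Scheme.{u}} [IsIntegral X] (a : X ⟶ Spec (CommRingCat.of k))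
    [Smooth a] : IsTame a := by
  refine ⟨X, inferInstance, 𝟙 X, ?_, inferInstance, inferInstance, ?_⟩
  · rw [Category.id_comp]
    infer_instance
  · rw [Scheme.Hom.residueDegree_id, Nat.cast_one]
    exact one_ne_zero

/-- The vanishing theorem for the structure sheaf. -/
def OPart (k : Type u) [Field k] : Prop :=
  ∀ (X Y : Scheme.{u}) (aX : X ⟶ Spec (CommRingCat.of k)) (aY : Y ⟶ Spec (CommRingCat.of k))
    [IsSeparated aX] [QuasiCompact aX] [LocallyOfFiniteType aX] [IsIntegral X]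
    [IsSeparated aY] [QuasiCompact aY] [LocallyOfFiniteType aY] [IsIntegral Y]
    (_ : Pi1.IsNormalScheme X) (_ : Pi1.IsNormalScheme Y) (_ : IsTame aX) (_ : IsTame aY)
    (π : X ⟶ Y) (_ : π ≫ aY = aX) [IsProper π] (_ : ∃ U : Y.Opens, (U : Set Y).Nonempty ∧ IsIso (π ∣_ U))
    [HasInjectiveResolutions X.Modules],
    (∀ p : ℕ, 0 < p → IsZero ((Coh.Rpush π p).obj (Coh.structureModule X))) ∧ IsIso (ClSub.unitToPush π)

/-- Row S14529. -/
theorem row29 (k : Type u) [Field k] (H : OPart k) (d : ℕ)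
    (X' Y X : Scheme.{u}) [X'.Over (Spec (CommRingCat.of k))] [Y.Over (Spec (CommRingCat.of k))] [X.Over (Spec (CommRingCat.of k))]
    [IsSeparated (X' ↘ Spec (CommRingCat.of k))] [QuasiCompact (X' ↘ Spec (CommRingCat.of k))] [LocallyOfFiniteType (X' ↘ Spec (CommRingCat.of k))] [Smooth (X' ↘ Spec (CommRingCat.of k))] [IsIntegral X']
    [IsSeparated (Y ↘ Spec (CommRingCat.of k))] [QuasiCompact (Y ↘ Spec (CommRingCat.of k))] [LocallyOfFiniteType (Y ↘ Spec (CommRingCat.of k))] [SmoothOfRelativeDimension d (Y ↘ Spec (CommRingCat.of k))] [IsIntegral Y]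
    [IsSeparated (X ↘ Spec (CommRingCat.of k))] [QuasiCompact (X ↘ Spec (CommRingCat.of k))] [LocallyOfFiniteType (X ↘ Spec (CommRingCat.of k))] [IsIntegral X] (hXn : Pi1.IsNormalScheme X)
    (f : X' ⟶ X) (hf : f ≫ (X ↘ Spec (CommRingCat.of k)) = X' ↘ Spec (CommRingCat.of k)) [IsFinite f] [Surjective f]
    (hdeg : ((f.residueDegree (genericPoint X') : ℕ) : k) ≠ 0)
    (π : Y ⟶ X) (hπ : π ≫ (X ↘ Spec (CommRingCat.of k)) = Y ↘ Spec (CommRingCat.of k)) [IsProper π]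
    (hbir : ∃ U : X.Opens, (U : Set X).Nonempty ∧ IsIso (π ∣_ U))
    (ωY : Y.Modules) (hωY : Canon.IsTopDiff (Y ↘ Spec (CommRingCat.of k)) d ωY)
    [HasInjectiveResolutions Y.Modules] :
    (∀ x : X, LocCoh.IsCohenMacaulayLocalRing (X.presheaf.stalk x)) ∧
      (∀ p : ℕ, 0 < p → IsZero ((Coh.Rpush π p).obj (Coh.structureModule Y))) ∧
      IsIso (ClSub.unitToPush π) ∧
      (∀ p : ℕ, 0 < p → IsZero ((Coh.Rpush π p).obj ωY)) := by
  have hs : Smooth (f ≫ (X ↘ Spec (CommRingCat.of k))) := by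
    rw [hf]
    infer_instance
  have hsY : Smooth (Y ↘ Spec (CommRingCat.of k)) := SmoothOfRelativeDimension.smooth d _
  have hCM := TameCM.isCM_stalk_of_tame (X ↘ Spec (CommRingCat.of k)) hXn f hs hdeg
  obtain ⟨h1, h2⟩ := H Y X (Y ↘ Spec (CommRingCat.of k)) (X ↘ Spec (CommRingCat.of k))
    (Sga4B.SmoothNormal.isNormalScheme_of_smooth (Y ↘ Spec (CommRingCat.of k))) hXn
    (isTame_of_smooth _) ⟨X', inferInstance, f, hs, inferInstance, inferInstance, hdeg⟩ π hπ hbir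
  have i1 : Dual3.IsSepFT (X ↘ Spec (CommRingCat.of k)) := ⟨inferInstance, inferInstance, inferInstance⟩
  have i2 : Dual3.IsSepFT (Y ↘ Spec (CommRingCat.of k)) := ⟨inferInstance, inferInstance, inferInstance⟩
  exact ⟨hCM, h1, h2, fun p hp => NonProper.rpush_topDiff_isZero d (X ↘ Spec (CommRingCat.of k))
    (Y ↘ Spec (CommRingCat.of k)) hCM π hπ hbir h2 h1 ωY hωY p hp⟩

/-- Row S14530. -/
theorem row30 (k : Type u) [Field k] (H : OPart k) (d : ℕ)
    (X' Y X : Scheme.{u}) [X'.Over (Spec (CommRingCat.of k))] [Y.Over (Spec (CommRingCat.of k))] [X.Over (Spec (CommRingCat.of k))]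
    [IsSeparated (X' ↘ Spec (CommRingCat.of k))] [QuasiCompact (X' ↘ Spec (CommRingCat.of k))] [LocallyOfFiniteType (X' ↘ Spec (CommRingCat.of k))] [Smooth (X' ↘ Spec (CommRingCat.of k))] [IsIntegral X']
    [IsSeparated (Y ↘ Spec (CommRingCat.of k))] [QuasiCompact (Y ↘ Spec (CommRingCat.of k))] [LocallyOfFiniteType (Y ↘ Spec (CommRingCat.of k))] [SmoothOfRelativeDimension d (Y ↘ Spec (CommRingCat.of k))] [IsIntegral Y]
    [IsProper (X ↘ Spec (CommRingCat.of k))] [IsIntegral X] (hXn : Pi1.IsNormalScheme X)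
    (f : X' ⟶ X) (hf : f ≫ (X ↘ Spec (CommRingCat.of k)) = X' ↘ Spec (CommRingCat.of k)) [IsFinite f] [Surjective f]
    (hdeg : ((f.residueDegree (genericPoint X') : ℕ) : k) ≠ 0)
    (π : Y ⟶ X) (hπ : π ≫ (X ↘ Spec (CommRingCat.of k)) = Y ↘ Spec (CommRingCat.of k)) [IsProper π]
    (hbir : ∃ U : X.Opens, (U : Set X).Nonempty ∧ IsIso (π ∣_ U))
    (ωY : Y.Modules) (hωY : Canon.IsTopDiff (Y ↘ Spec (CommRingCat.of k)) d ωY)
    [DCoh.HasRpush (X ↘ Spec (CommRingCat.of k))] (h : DCoh.RpushPreservesQCoh (X ↘ Spec (CommRingCat.of k))) [DCoh.HasShriek (X ↘ Spec (CommRingCat.of k)) h]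
    (Ok : DCoh.DQCoh (Spec (CommRingCat.of k))) (hOk : Nonempty (Ok.obj ≅ DCoh.inD (Spec (CommRingCat.of k)) (Coh.structureModule (Spec (CommRingCat.of k))))) :
    (∀ n : ℤ, n ≠ -(d : ℤ) → IsZero (DCoh.HD (DCoh.dualizingCx (X ↘ Spec (CommRingCat.of k)) h Ok) n)) ∧
      Nonempty ((Coh.push π).obj ωY ≅ DCoh.dualizingMod (X ↘ Spec (CommRingCat.of k)) h Ok d) := by
  have hs : Smooth (f ≫ (X ↘ Spec (CommRingCat.of k))) := by
    rw [hf]
    infer_instance
  have hsY : Smooth (Y ↘ Spec (CommRingCat.of k)) := SmoothOfRelativeDimension.smooth d _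
  have hCM := TameCM.isCM_stalk_of_tame (X ↘ Spec (CommRingCat.of k)) hXn f hs hdeg
  obtain ⟨h1, h2⟩ := H Y X (Y ↘ Spec (CommRingCat.of k)) (X ↘ Spec (CommRingCat.of k))
    (Sga4B.SmoothNormal.isNormalScheme_of_smooth (Y ↘ Spec (CommRingCat.of k))) hXn
    (isTame_of_smooth _) ⟨X', inferInstance, f, hs, inferInstance, inferInstance, hdeg⟩ π hπ hbir
  exact ProperRows.push_topDiff d (X ↘ Spec (CommRingCat.of k)) (Y ↘ Spec (CommRingCat.of k)) hCM π hπ hbir h2 h1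
    ωY hωY h Ok hOk

/-- Row S14533. -/
theorem row33 (k : Type u) [Field k] (H : OPart k) (d : ℕ)
    (X Y : Scheme.{u}) [X.Over (Spec (CommRingCat.of k))] [Y.Over (Spec (CommRingCat.of k))]
    [IsProper (X ↘ Spec (CommRingCat.of k))] [IsIntegral X] (hXn : Pi1.IsNormalScheme X) (hdX : topologicalKrullDim X = d)
    (hXt : ∃ (X' : Scheme.{u}) (_ : IsIntegral X') (f' : X' ⟶ X), Smooth (f' ≫ (X ↘ Spec (CommRingCat.of k))) ∧ IsFinite f' ∧ Surjective f' ∧ ((f'.residueDegree (genericPoint X') : ℕ) : k) ≠ 0)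
    [IsProper (Y ↘ Spec (CommRingCat.of k))] [IsIntegral Y] (hYn : Pi1.IsNormalScheme Y) (hdY : topologicalKrullDim Y = d)
    (hYt : ∃ (Y' : Scheme.{u}) (_ : IsIntegral Y') (g' : Y' ⟶ Y), Smooth (g' ≫ (Y ↘ Spec (CommRingCat.of k))) ∧ IsFinite g' ∧ Surjective g' ∧ ((g'.residueDegree (genericPoint Y') : ℕ) : k) ≠ 0)
    (π : X ⟶ Y) (hπ : π ≫ (Y ↘ Spec (CommRingCat.of k)) = X ↘ Spec (CommRingCat.of k))
    (hbir : ∃ U : Y.Opens, (U : Set Y).Nonempty ∧ IsIso (π ∣_ U))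
    [DCoh.HasRpush (X ↘ Spec (CommRingCat.of k))] (hX : DCoh.RpushPreservesQCoh (X ↘ Spec (CommRingCat.of k))) [DCoh.HasShriek (X ↘ Spec (CommRingCat.of k)) hX]
    [DCoh.HasRpush (Y ↘ Spec (CommRingCat.of k))] (hY : DCoh.RpushPreservesQCoh (Y ↘ Spec (CommRingCat.of k))) [DCoh.HasShriek (Y ↘ Spec (CommRingCat.of k)) hY]
    (Ok : DCoh.DQCoh (Spec (CommRingCat.of k))) (hOk : Nonempty (Ok.obj ≅ DCoh.inD (Spec (CommRingCat.of k)) (Coh.structureModule (Spec (CommRingCat.of k)))))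
    [HasInjectiveResolutions X.Modules] :
    (∀ p : ℕ, 0 < p → IsZero ((Coh.Rpush π p).obj (DCoh.dualizingMod (X ↘ Spec (CommRingCat.of k)) hX Ok d))) ∧
      Nonempty ((Coh.push π).obj (DCoh.dualizingMod (X ↘ Spec (CommRingCat.of k)) hX Ok d) ≅ DCoh.dualizingMod (Y ↘ Spec (CommRingCat.of k)) hY Ok d) := by
  have hprc : IsProper (π ≫ (Y ↘ Spec (CommRingCat.of k))) := by
    rw [hπ]
    infer_instance
  have hpr : IsProper π := IsProper.of_comp π (Y ↘ Spec (CommRingCat.of k))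
  obtain ⟨h1, h2⟩ := H X Y (X ↘ Spec (CommRingCat.of k)) (Y ↘ Spec (CommRingCat.of k)) hXn hYn hXt hYt π hπ hbir
  obtain ⟨X', hX', f', hs, hf, hsu, hd⟩ := hXt
  obtain ⟨Y', hY', g', hs', hg, hsu', hd'⟩ := hYt
  exact ProperRows.rpush_dualizing d (X ↘ Spec (CommRingCat.of k)) (Y ↘ Spec (CommRingCat.of k))
    (TameCM.isCM_stalk_of_tame (X ↘ Spec (CommRingCat.of k)) hXn f' hs hd)
    (TameCM.isCM_stalk_of_tame (Y ↘ Spec (CommRingCat.of k)) hYn g' hs' hd') hdX hdY π hπ h2 h1 hX hY Ok hOk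

end K97.Rows
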