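import Groth.Agent.RatRes.K97.TameTr
import Groth.Agent.RatRes.K97.Rows
import Groth.Agent.RatRes.K74.Main
import Groth.Agent.RatRes.K74.Smooth
import Groth.Agent.CohqA.LerayBasis
import Groth.Agent.RatRes.K162.KPiece

/-!
# Classes on modifications of affine tame quotients die on modifications

* `pb_push_bijective`: degenerate Leray, `H^n(U, f_* F) = H^n(f⁻¹ U, F)` through the pullback map.
* `pbk_injective`: pullback of classes along an affine morphism with a retraction `f_* O ⟶ O` is injective.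
* `kill_of_tame`: classes of positive degree on modifications of affine tame quotients die on modifications.
-/

set_option autoImplicit false
universe u
open CategoryTheory CategoryTheory.Limits CategoryTheory.Abelian AlgebraicGeometry TopologicalSpace Opposite

noncomputable section

namespace K97.TameKill

open Groth.Agent.CurvesC.Modif K74.HC K74.HCOpen K74.SC K74.Compare K56.PMap Groth.Agent.CohqA

section top

variable {X Y : TopCat.{u}}

attribute [local instance 10001] abT extT enoughT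

/-- The transposes of the identities of the terms of a short complex. -/
def counitS (f : X ⟶ Y) (S : ShortComplex (CohTop.Ab X)) : (S.map (CohTop.push f)).map (CohPull.inv f) ⟶ S where
  τ₁ := tr f (𝟙 ((CohTop.push f).obj S.X₁))
  τ₂ := tr f (𝟙 ((CohTop.push f).obj S.X₂))
  τ₃ := tr f (𝟙 ((CohTop.push f).obj S.X₃))
  comm₁₂ := by
    refine (tr_comp' f (𝟙 _) S.f).symm.trans ?_
    refine Eq.trans ?_ (tr_comp f ((CohTop.push f).map S.f) (𝟙 _))
    rw [Category.id_comp, Category.comp_id]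
  comm₂₃ := by
    refine (tr_comp' f (𝟙 _) S.g).symm.trans ?_
    refine Eq.trans ?_ (tr_comp f ((CohTop.push f).map S.g) (𝟙 _))
    rw [Category.id_comp, Category.comp_id]

/-- Degenerate Leray. -/
theorem pb_push_bijective (f : X ⟶ Y) (B : Set (Opens Y)) (hB : Opens.IsBasis B) (n : ℕ) :
    ∀ (F : CohTop.Ab X) (_ : ∀ V ∈ B, ∀ q : ℕ, 0 < q → Subsingleton (HC F q ((Opens.map f).obj V))) (U : Opens Y),
      Function.Bijective (pb f (𝟙 ((CohTop.push f).obj F)) n (le_refl ((Opens.map f).obj U))) := by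
  induction n with
  | zero =>
    intro F hF U
    have h1 : (H0 F ((Opens.map f).obj U)) ∘ pb f (𝟙 ((CohTop.push f).obj F)) 0 (le_refl ((Opens.map f).obj U)) =
        H0 ((CohTop.push f).obj F) U := by
      funext x
      refine (H0_pb f (𝟙 ((CohTop.push f).obj F)) (le_refl ((Opens.map f).obj U)) x).trans ?_
      exact ConcreteCategory.congr_hom (F.obj.map_id (op ((Opens.map f).obj U))) _
    refine (Function.Bijective.of_comp_iff' (H0 _ _).bijective _).1 ?_
    rw [h1]
    exact (H0 ((CohTop.push f).obj F) U).bijective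
  | succ n ih =>
    intro F hF U
    obtain ⟨S, hS, hI, rfl⟩ := K74.ExtPM.exists_ses F
    let V := (Opens.map f).obj U
    have hepi : Epi ((CohTop.push f).map S.g) := LerayBasis.epi_push f hS B hB fun V hV => hF V hV 1 one_pos
    have hRS : (S.map (CohTop.push f)).ShortExact := Groth.Agent.CohtopA.PushExact.push_map_shortExact f hS hepi
    have hQ : ∀ V ∈ B, ∀ q : ℕ, 0 < q → Subsingleton (HC S.X₃ q ((Opens.map f).obj V)) := fun V hV q hq =>
      LerayBasis.subsingleton_quot hS _ q hq (hF V hV (q + 1) (by omega))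
    have hfl : TopCat.Sheaf.IsFlasque S.X₂ := Groth.Agent.CohtopA.Flasque.isFlasque_of_injective _
    have hfl' : TopCat.Sheaf.IsFlasque ((CohTop.push f).obj S.X₂) := inferInstance
    have s1 : Subsingleton (HC ((CohTop.push f).obj S.X₂) (n + 1) U) := subsingleton_of_isFlasque _ n U
    have s2 : Subsingleton (HC S.X₂ (n + 1) V) := subsingleton_of_isFlasque _ n V
    have hδ : ∀ x : HC ((CohTop.push f).obj S.X₃) n U,
        pb f (𝟙 ((CohTop.push f).obj S.X₁)) (n + 1) (le_refl V) (δs hRS n U x) =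
        δs hS n V (pb f (𝟙 ((CohTop.push f).obj S.X₃)) n (le_refl V) x) := fun x =>
      pb_δs f hRS hS (counitS f S) (𝟙 _) (𝟙 _) rfl rfl n (le_refl V) x
    have hmp : ∀ x : HC ((CohTop.push f).obj S.X₂) n U,
        pb f (𝟙 ((CohTop.push f).obj S.X₃)) n (le_refl V) (mp ((CohTop.push f).map S.g) n U x) =
        mp S.g n V (pb f (𝟙 ((CohTop.push f).obj S.X₂)) n (le_refl V) x) := fun x => by
      rw [← pb_mp_left, ← pb_mp_right, Category.id_comp, Category.comp_id]
    have ih₃ := ih S.X₃ hQ U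
    have hI2 : ∀ V ∈ B, ∀ q : ℕ, 0 < q → Subsingleton (HC S.X₂ q ((Opens.map f).obj V)) := by
      intro V hV q hq
      obtain ⟨m, rfl⟩ : ∃ m, q = m + 1 := ⟨q - 1, by omega⟩
      exact subsingleton_of_isFlasque _ m _
    have ih₂ := ih S.X₂ hI2 U
    constructor
    · rw [injective_iff_map_eq_zero]
      intro x hx
      obtain ⟨y, rfl⟩ := exact₁ hRS n U x (Subsingleton.elim (α := HC ((CohTop.push f).obj S.X₂) (n + 1) U) _ _)
      have hx' := (hδ y).symm.trans hx
      obtain ⟨z, hz⟩ := exact₃ hS n V _ hx'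
      obtain ⟨w, rfl⟩ := ih₂.2 z
      have h2 : mp ((CohTop.push f).map S.g) n U w = y := ih₃.1 ((hmp w).trans hz)
      rw [← h2]
      exact δs_mp hRS n U w
    · intro x
      obtain ⟨y, rfl⟩ := exact₁ hS n V x (Subsingleton.elim (α := HC S.X₂ (n + 1) V) _ _)
      obtain ⟨z, rfl⟩ := ih₃.2 y
      exact ⟨δs hRS n U z, hδ z⟩

end top

/-- Pullback along an affine morphism with a retraction is injective. -/
theorem pbk_injective {Z' Z'' : Scheme.{u}} (a : Z'' ⟶ Z') [IsAffineHom a]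
    (τ : (Scheme.Modules.pushforward a).obj (Coh.structureModule Z'') ⟶ Coh.structureModule Z')
    (hτ : ClSub.unitToPush a ≫ τ = 𝟙 _) (n : ℕ) (U : Z'.Opens) :
    Function.Injective (pbk a n (le_refl (a ⁻¹ᵁ U))) := by
  let τ' : (CohTop.push a.base).obj (OO Z'') ⟶ OO Z' := (SheafOfModules.toSheaf Z'.ringCatSheaf).map τ
  have h1 : phi a ≫ τ' = 𝟙 (OO Z') := by
    have h2 := congrArg (fun t => (SheafOfModules.toSheaf Z'.ringCatSheaf).map t) hτ
    exact ((SheafOfModules.toSheaf Z'.ringCatSheaf).map_comp _ _).symm.trans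
      (h2.trans ((SheafOfModules.toSheaf Z'.ringCatSheaf).map_id _))
  have hbij := pb_push_bijective a.base {V | IsAffineOpen (X := Z') V} Z'.isBasis_affineOpens n (OO Z'')
    (fun V hV q hq => by
      obtain ⟨m, rfl⟩ : ∃ m, q = m + 1 := ⟨q - 1, by omega⟩
      have hV' : IsAffineOpen (X := Z') V := hV
      exact subsingleton_of_isAffineOpen Z'' m (a ⁻¹ᵁ V) (hV'.preimage a)) U
  have h3 : ∀ x : C Z' n U, pbk a n (le_refl (a ⁻¹ᵁ U)) x =
      pb a.base (𝟙 ((CohTop.push a.base).obj (OO Z''))) n (le_refl (a ⁻¹ᵁ U)) (mp (phi a) n U x) := by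
    intro x
    rw [← pb_mp_left, Category.comp_id]
    rfl
  intro x y hxy
  rw [h3, h3] at hxy
  have h4 := hbij.1 hxy
  have h5 := congrArg (mp τ' n U) h4
  rwa [← mp_comp, ← mp_comp, h1, mp_id, mp_id] at h5

theorem pbk_congr {Z Z' : Scheme.{u}} {f g : Z' ⟶ Z} (e : f = g) (n : ℕ) {U : Z.Opens} {V : Z'.Opens}
    (h : V ≤ f ⁻¹ᵁ U) (h' : V ≤ g ⁻¹ᵁ U) (x : C Z n U) : pbk f n h x = pbk g n h' x := by
  subst e
  rfl

section Field

variable (k : Type u) [Field k]

/-- `Kill` for affine tame quotients. -/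
theorem kill_of_tame {U U' : Scheme.{u}} [IsAffine U] [IsIntegral U]
    (a : U ⟶ Spec (CommRingCat.of k)) [LocallyOfFiniteType a] (f' : U' ⟶ U) [IsFinite f'] [Surjective f']
    [IsIntegral U'] (hs : Smooth (f' ≫ a)) (hdeg : ((f'.residueDegree (genericPoint U') : ℕ) : k) ≠ 0) : Kill U := by
  have hU' : IsAffine U' := isAffine_of_isAffineHom f'
  have hK' : Kill U' := fun n {Z} p hp => K74.Smooth.kill_of_smooth k (K162.KPiece.key k) (f' ≫ a) n p hp
  intro n Z p hp
  obtain ⟨W₁, r₁, b, hr₁, hb, H⟩ := TameDom.exists_strict_then_finite k a f' hp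
  obtain ⟨W₁', h₁, hh₁, hkill⟩ := hK' n r₁ hr₁
  obtain ⟨W', W'', h, a', c, hh, hn', hfin, hsurj, hc, hn'', e, hint, hdeg'⟩ := H W₁' h₁ hh₁
  have := hh.integral
  let φ : k →+* Γ(W', ⊤) := ((h ≫ p ≫ a).appTop).hom.comp (Scheme.ΓSpecIso (CommRingCat.of k)).inv.hom
  have hn : IsUnit ((a'.residueDegree (genericPoint W'') : ℕ) : Γ(W', ⊤)) := by
    rw [hdeg', ← map_natCast φ]
    exact (IsUnit.mk0 _ hdeg).map φ
  obtain ⟨τ, hτ, -⟩ := TameTr.exists_tr a' hn' hn'' hn
  refine ⟨W', h, hh, fun x => ?_⟩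
  apply pbk_injective a' τ hτ (n + 1) ⊤
  rw [map_zero]
  have e1 := pbk_pbk h (n + 1) a' (V := ⊤) (W := ⊤) (le_refl _) (le_refl _) (le_refl _) x
  have e2 := pbk_pbk b (n + 1) (c ≫ h₁) (V := ⊤) (W := ⊤) (le_refl _) (le_refl _) (le_refl _) x
  have e3 := pbk_pbk h₁ (n + 1) c (V := ⊤) (W := ⊤) (le_refl _) (le_refl _) (le_refl _)
    (pbk b (n + 1) (V := ⊤) (le_refl _) x)
  refine e1.trans ?_
  rw [pbk_congr e.symm (n + 1) (V := ⊤) (le_refl _) (le_refl _) x]
  have e4 : pbk (c ≫ h₁ ≫ b) (n + 1) (V := ⊤) (le_refl _) x = pbk ((c ≫ h₁) ≫ b) (n + 1) (V := ⊤) (le_refl _) x :=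
    pbk_congr (Category.assoc _ _ _).symm (n + 1) _ _ x
  rw [e4, ← e2, ← e3, hkill, map_zero]
  rfl

end Field

end K97.TameKill
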